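import Cfsg.Agent.H874.CCBal
import Cfsg.Agent.CTwoTab.Suz
import Cfsg.Agent.BpSpor.SuzThreeCentral
import Cfsg.Agent.S1679
import Cfsg.Agent.S1680
import Cfsg.Agent.S1055
import Cfsg.Agent.Cit.ElevenFact
import Cfsg.Agent.SuzThree.CentCard

/-!
# The row `Suz` of S3828 (helper874, task 2647)

* `crow_suz` : `CRow p K` for every prime `p` and every `K` isomorphic to `Suz`.
-/

set_option autoImplicit false
set_option maxRecDepth 100000

namespace Cfsg.Agent.H874.CCSuz

open Subgroup Cfsg Cfsg.Agent.Lib.Cores Cfsg.Agent.H162.CCR Cfsg.Agent.H874.CCBal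
open Cfsg.Spor (Suz)
open Cfsg.Agent.SporadicRecognition.SuzOrder Cfsg.Agent.SuzThree.Basic Cfsg.Agent.SuzThree.CentA
  Cfsg.Agent.SuzThree.Elementary Cfsg.Agent.SuzThree.NormElts Cfsg.Agent.SuzThree.NormAct
  Cfsg.Agent.SuzThree.QZero
open Cfsg.Agent.KFacts.SuzLFour (e0)

theorem finSuz : Finite Suz := Cfsg.Agent.CTwoTab.Suz.finSuz

theorem simpleSuz : IsSimpleGroup Suz := simple

theorem card_suz : Nat.card Suz = 448345497600 := card_Suz

theorem na_suz : ¬ IsMulCommutative Suz := by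
  intro h
  exact Cfsg.Agent.CTwoTab.Suz.na_L ⟨⟨fun a b => Subtype.ext (h.is_comm.comm (a : Suz) (b : Suz))⟩⟩

theorem center_suz : center Suz = ⊥ := by
  have hs := simpleSuz
  rcases hs.eq_bot_or_eq_top_of_normal (center Suz) inferInstance with h | h
  · exact h
  · exfalso
    apply na_suz
    refine ⟨⟨fun a b => ?_⟩⟩
    have : b ∈ center Suz := by rw [h]; trivial
    exact mem_center_iff.1 this a

/-! ### `p ∤ 1782`: the subgroup `G₂(4)` -/

theorem row_sub {p : ℕ} [hp : Fact p.Prime] (h : ¬ p ∣ 1782) : CRow p Suz := by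
  obtain ⟨F, _, _, hF, ⟨e⟩⟩ := Cfsg.Agent.S1679.result
  have hF' : ∃ a : F, a ≠ 0 ∧ a ≠ 1 := by
    classical
    by_contra hcon
    push Not at hcon
    have h1 : (Finset.univ : Finset F) ⊆ {0, 1} := by
      intro a _
      rw [Finset.mem_insert, Finset.mem_singleton]
      by_cases h0 : a = 0
      · exact Or.inl h0
      · exact Or.inr (hcon a h0)
    have h2 := Finset.card_le_card h1
    rw [Finset.card_univ, hF] at h2
    have h3 : ({0, 1} : Finset F).card ≤ 2 := Finset.card_le_two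
    omega
  obtain ⟨hs, hna⟩ := Cfsg.Agent.S1055.result hF'
  have hfin := finSuz
  have hidx := Cfsg.Agent.S1680.result.1
  intro C hC
  refine hC.eq_one_of_index (H := ((Subgroup.closure ({Cfsg.Spor.Suz.a, Cfsg.Spor.Suz.b, Cfsg.Spor.Suz.c, Cfsg.Spor.Suz.d, Cfsg.Spor.Suz.e, Cfsg.Spor.Suz.f} : Set (FreeGroup Cfsg.Spor.Suz.Gen))).map (PresentedGroup.mk (Cfsg.Spor.coxRelators Cfsg.Spor.Suz.edges ∪ {r | r ∈ Cfsg.Spor.Suz.extra}))))
    ?_ (by rw [hidx]; exact h) ?_
  · intro ht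
    rw [ht, Subgroup.index_top] at hidx
    norm_num at hidx
  · have hfin2 : Finite ↥(Lie.chevG2.group F) := Finite.of_equiv _ e.toEquiv
    rw [← map_equiv_pCore e.symm p, pCore_eq_bot_of_simple hna p, Subgroup.map_bot]

/-! ### Balanced involutions -/

theorem bal (t : Suz) (ht : t * t = 1) (ht1 : t ≠ 1) : ∃ s, IsConj s t ∧ centralizerPPrimeCore 2 s = ⊥ := by
  have hfin := finSuz
  rcases Cfsg.Agent.CTwoTab.Suz.classes ht ht1 with h | h
  · exact ⟨z0, h, (Cfsg.Agent.CTwoTab.at_of_large KFacts.SuzLarge.large).bal⟩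
  · exact ⟨e0, h, Cfsg.Agent.CTwoTab.Suz.at_e.bal⟩

/-- the two classes of involutions -/
theorem not_isConj : ¬ IsConj z0 e0 := by
  intro h
  have hfin := finSuz
  have h1 : Nat.card ↥(centralizer ({z0} : Set Suz)) = 3317760 := Cfsg.Agent.SuzThree.CentCard.card_C1
  have h2 : Nat.card ↥(centralizer ({e0} : Set Suz)) = 161280 := Cfsg.Agent.KFacts.SuzTwoB.card_CE
  obtain ⟨g, hg⟩ := isConj_iff.1 h
  have h3 : Nat.card ↥(centralizer ({z0} : Set Suz)) ≤ Nat.card ↥(centralizer ({e0} : Set Suz)) := by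
    refine Nat.card_le_card_of_injective
      (fun x => (⟨g * (x : Suz) * g⁻¹, ?_⟩ : ↥(centralizer ({e0} : Set Suz)))) ?_
    · have hx := mem_centralizer_singleton_iff.1 x.2
      rw [mem_centralizer_singleton_iff, ← hg]
      calc g * (x : Suz) * g⁻¹ * (g * z0 * g⁻¹) = g * ((x : Suz) * z0) * g⁻¹ := by group
        _ = g * z0 * g⁻¹ * (g * x * g⁻¹) := by rw [hx]; group
    · intro x y hxy
      have h4 : g * (x : Suz) * g⁻¹ = g * (y : Suz) * g⁻¹ := congrArg Subtype.val hxy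
      exact Subtype.ext (by simpa using h4)
  omega

theorem z0_ne : z0 ≠ 1 := Cfsg.Agent.KFacts.SuzLarge.large.z_ne

theorem e0_sq : e0 * e0 = 1 := Cfsg.Agent.KFacts.SuzLFour.e0_sq

theorem e0_ne : e0 ≠ 1 := by
  intro h
  have h2 : Nat.card ↥(centralizer ({e0} : Set Suz)) = 161280 := Cfsg.Agent.KFacts.SuzTwoB.card_CE
  have h3 : centralizer ({e0} : Set Suz) = ⊤ := by
    rw [eq_top_iff]
    intro g _
    rw [mem_centralizer_singleton_iff, h, one_mul, mul_one]
  rw [h3, card_top, card_suz] at h2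
  omega

theorem row_eleven : CRow 11 Suz := by
  have hp : Fact (Nat.Prime 11) := ⟨by norm_num⟩
  have hs := simpleSuz
  have hfin := finSuz
  intro C hC
  exact eq_one_of_classes (by norm_num) hs center_suz (pCore_eq_bot_of_simple na_suz 11)
    (by rw [card_suz]; norm_num) hC bal z_sq z0_ne e0_sq e0_ne not_isConj

/-! ### `p = 2` -/

theorem C1_index : C1.index = 135135 := by
  have h1 := C1.card_mul_index
  rw [Cfsg.Agent.SuzThree.CentCard.card_C1, card_suz] at h1
  omega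

theorem row_two : CRow 2 Suz := by
  have hp : Fact (Nat.Prime 2) := ⟨Nat.prime_two⟩
  have hs := simpleSuz
  have hfin := finSuz
  intro C hC
  refine hC.eq_one_of_two_abelian (H := C1) (pCore_eq_bot_of_simple na_suz 2) ?_ ?_ ?_
  · intro h
    have h1 := C1_index
    rw [h, index_top] at h1
    omega
  · rw [C1_index]
    norm_num
  · intro A hA hN hp2 hab x hx
    have hinv : ∀ u : Suz, u * z0 = z0 * u → ∀ w ∈ A, u * w * u⁻¹ ∈ A := fun u hu w hw =>
      (mem_normalizer_iff.1 (hN (mem_C1.2 hu)) w).1 hw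
    have hQ : A ≤ Q0 := Cfsg.Agent.KFacts.SuzLarge.hR hp2 (fun w hw => mem_C1.1 (hA hw)) hinv
    rcases Cfsg.Agent.KFacts.SuzLarge.irr A hQ hinv with h | h
    · rcases h x hx with rfl | rfl
      · rw [one_mul]
      · exact z_sq
    · exfalso
      obtain ⟨y, hy, hy1, hyz⟩ := Cfsg.Agent.KFacts.SuzLarge.exists_nc
      rcases Cfsg.Agent.KFacts.SuzLarge.large.cent y hy (fun w hw => hab y (h ▸ hy) w (h ▸ hw)) with h1 | h1
      · exact hy1 h1
      · exact hyz h1

/-! ### `p = 3` -/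

theorem NA_index : NA.index = 232960 := by
  have h1 := NA.card_mul_index
  rw [Cfsg.Agent.BpSpor.SuzThreeCentral.card_NA, card_suz] at h1
  omega

theorem na_M11 {K : Type*} [Group K] (h : Cfsg.Spor.IsoM11 K) : ¬ IsMulCommutative K := by
  intro hc
  have hs := Cfsg.Agent.Cit.ElevenFact.simple h
  obtain ⟨e⟩ := h
  have hcard : Nat.card K = 7920 := by
    rw [Nat.card_congr e.toEquiv, Cfsg.Agent.HNType.Alt.card_M11]
  let _ : CommGroup K := { (inferInstance : Group K) with mul_comm := hc.is_comm.comm }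
  have : Finite K := Nat.finite_of_card_ne_zero (by rw [hcard]; norm_num)
  have h3 : (Nat.card K).Prime := IsSimpleGroup.prime_card
  rw [hcard] at h3
  exact absurd h3 (by norm_num)

theorem mem_A0_of_pCore {x : ↥NA} (hx : x ∈ pCore 3 ↥NA) : (x : Suz) ∈ A0 := by
  have hfin := finSuz
  have hp : Fact (Nat.Prime 3) := ⟨Nat.prime_three⟩
  have hs : IsSimpleGroup (↥NA ⧸ A0.subgroupOf NA) := Cfsg.Agent.Cit.ElevenFact.simple isoM11
  have h1 : pCore 3 (↥NA ⧸ A0.subgroupOf NA) = ⊥ := pCore_eq_bot_of_simple (na_M11 isoM11) 3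
  have h2 : (pCore 3 ↥NA).map (QuotientGroup.mk' (A0.subgroupOf NA)) ≤ pCore 3 (↥NA ⧸ A0.subgroupOf NA) :=
    le_pCore ((inferInstance : (pCore 3 ↥NA).Normal).map _ (QuotientGroup.mk'_surjective _))
      ((pCore_isPGroup 3).map _)
  have h3 : QuotientGroup.mk' (A0.subgroupOf NA) x ∈ pCore 3 (↥NA ⧸ A0.subgroupOf NA) := h2 ⟨x, hx, rfl⟩
  rw [h1, mem_bot] at h3
  exact mem_subgroupOf.1 ((QuotientGroup.eq_one_iff x).1 h3)

/-- the elements of `A0` commute with involutions -/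
theorem even_A0 {a : Suz} (ha : a ∈ A0) : ¬ Odd (Nat.card ↥(centralizer ({a} : Set Suz))) := by
  have hfin := finSuz
  have hF : Fact (Nat.Prime 2) := ⟨Nat.prime_two⟩
  intro hodd
  obtain ⟨v, rfl⟩ := mem_A0.1 ha
  obtain ⟨f, g, hfg, s, t, hv⟩ := Cfsg.Agent.BpSpor.SuzThreeCentral.decomp v
  have hD : 2 ^ 3 ∣ Nat.card (Cfsg.Agent.BpSpor.SuzThreeCentral.D f g) := by
    have h1 := (Cfsg.Agent.BpSpor.SuzThreeCentral.D f g).card_mul_index
    rw [Cfsg.Agent.BpSpor.SuzThreeCentral.D_index hfg, Cfsg.Agent.BpSpor.SuzThreeCentral.card_NA] at h1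
    omega
  obtain ⟨P⟩ : Nonempty (Sylow 2 ↥(Cfsg.Agent.BpSpor.SuzThreeCentral.D f g)) := inferInstance
  have hP : 2 ^ 3 ∣ Nat.card (P : Subgroup ↥(Cfsg.Agent.BpSpor.SuzThreeCentral.D f g)) :=
    P.pow_dvd_card_of_pow_dvd_card hD
  set T : Subgroup Suz := ((P : Subgroup ↥(Cfsg.Agent.BpSpor.SuzThreeCentral.D f g)).map
    (Cfsg.Agent.BpSpor.SuzThreeCentral.D f g).subtype).map NA.subtype with hT
  have hTc : Nat.card T = Nat.card (P : Subgroup ↥(Cfsg.Agent.BpSpor.SuzThreeCentral.D f g)) := by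
    rw [hT, card_map_of_injective NA.subtype_injective,
      card_map_of_injective (Cfsg.Agent.BpSpor.SuzThreeCentral.D f g).subtype_injective]
  have hTp : IsPGroup 2 T := (P.2.map _).map _
  have hsp : ∀ n ∈ T, ∀ i, i = f ∨ i = g → Sp n i i := by
    rintro _ ⟨_, ⟨n, hn, rfl⟩, rfl⟩ i hi
    have hn' := Cfsg.Agent.BpSpor.SuzThreeCentral.mem_D.1 n.2
    rcases hi with rfl | rfl
    · have := smul_spec (n : ↥NA) i
      rw [hn'.1] at this
      exact this
    · have := smul_spec (n : ↥NA) i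
      rw [hn'.2] at this
      exact this
  classical
  -- the signs
  let F : T → Bool × Bool := fun n =>
    (decide ((n : Suz) * Cfsg.Agent.SuzThree.Elts.x f * (n : Suz)⁻¹ = Cfsg.Agent.SuzThree.Elts.x f),
      decide ((n : Suz) * Cfsg.Agent.SuzThree.Elts.x g * (n : Suz)⁻¹ = Cfsg.Agent.SuzThree.Elts.x g))
  have hni : ¬ Function.Injective F := by
    intro hinj
    have h1 := Nat.card_le_card_of_injective F hinj
    have h2 : Nat.card (Bool × Bool) = 4 := by
      rw [Nat.card_eq_fintype_card]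
      rfl
    rw [h2, hTc] at h1
    have h3 : 0 < Nat.card (P : Subgroup ↥(Cfsg.Agent.BpSpor.SuzThreeCentral.D f g)) := Nat.card_pos
    have h4 := Nat.le_of_dvd h3 hP
    omega
  rw [Function.Injective] at hni
  push Not at hni
  obtain ⟨m, n, hmn, hne⟩ := hni
  have key : ∀ i, i = f ∨ i = g → (decide ((m : Suz) * Cfsg.Agent.SuzThree.Elts.x i * (m : Suz)⁻¹ =
      Cfsg.Agent.SuzThree.Elts.x i)) = (decide ((n : Suz) * Cfsg.Agent.SuzThree.Elts.x i * (n : Suz)⁻¹ =
      Cfsg.Agent.SuzThree.Elts.x i)) → ((m : Suz)⁻¹ * n) * Cfsg.Agent.SuzThree.Elts.x i =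
        Cfsg.Agent.SuzThree.Elts.x i * ((m : Suz)⁻¹ * n) := by
    intro i hi he
    have h1 : (m : Suz) * Cfsg.Agent.SuzThree.Elts.x i * (m : Suz)⁻¹ =
        (n : Suz) * Cfsg.Agent.SuzThree.Elts.x i * (n : Suz)⁻¹ := by
      by_cases h2 : (m : Suz) * Cfsg.Agent.SuzThree.Elts.x i * (m : Suz)⁻¹ = Cfsg.Agent.SuzThree.Elts.x i
      · have h3 : (n : Suz) * Cfsg.Agent.SuzThree.Elts.x i * (n : Suz)⁻¹ = Cfsg.Agent.SuzThree.Elts.x i := by
          simpa [h2] using he.symm
        rw [h2, h3]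
      · have h3 : ¬ (n : Suz) * Cfsg.Agent.SuzThree.Elts.x i * (n : Suz)⁻¹ = Cfsg.Agent.SuzThree.Elts.x i := by
          simpa [h2] using he.symm
        rcases hsp m m.2 i hi with h4 | h4
        · exact absurd h4 h2
        rcases hsp n n.2 i hi with h5 | h5
        · exact absurd h5 h3
        rw [h4, h5]
    calc ((m : Suz)⁻¹ * n) * Cfsg.Agent.SuzThree.Elts.x i = (m : Suz)⁻¹ * ((n : Suz) * Cfsg.Agent.SuzThree.Elts.x i *
          (n : Suz)⁻¹) * n := by group
      _ = (m : Suz)⁻¹ * ((m : Suz) * Cfsg.Agent.SuzThree.Elts.x i * (m : Suz)⁻¹) * n := by rw [h1]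
      _ = Cfsg.Agent.SuzThree.Elts.x i * ((m : Suz)⁻¹ * n) := by group
  have hk : ∀ i, i = f ∨ i = g → Cfsg.Agent.SuzThree.Elts.x i ∈ centralizer ({(m : Suz)⁻¹ * n} : Set Suz) := by
    intro i hi
    rw [mem_centralizer_singleton_iff]
    refine (key i hi ?_).symm
    rcases hi with rfl | rfl
    · exact congrArg Prod.fst hmn
    · exact congrArg Prod.snd hmn
  have hEv : E v ∈ centralizer ({(m : Suz)⁻¹ * n} : Set Suz) := by
    rw [hv, E_add]
    exact mul_mem (Cfsg.Agent.BpSpor.SuzThreeCentral.E_smul_mem (hk f (Or.inl rfl)) s)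
      (Cfsg.Agent.BpSpor.SuzThreeCentral.E_smul_mem (hk g (Or.inr rfl)) t)
  have hcomm := mem_centralizer_singleton_iff.1 hEv
  -- `m⁻¹ n` is a non-trivial 2-element of odd order
  have h1 : orderOf ((m : Suz)⁻¹ * n) ∣ Nat.card ↥(centralizer ({E v} : Set Suz)) :=
    Subgroup.orderOf_dvd_natCard _ (mem_centralizer_singleton_iff.2 hcomm.symm)
  obtain ⟨k, hk2⟩ := hTp (m⁻¹ * n)
  have h2 : orderOf ((m : Suz)⁻¹ * n) ∣ 2 ^ k := orderOf_dvd_of_pow_eq_one (congrArg Subtype.val hk2)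
  have h3 : (Nat.card ↥(centralizer ({E v} : Set Suz))).Coprime (2 ^ k) :=
    Nat.Coprime.pow_right k hodd.coprime_two_right
  have h4 := Nat.eq_one_of_dvd_coprimes h3 h1 h2
  rw [orderOf_eq_one_iff, inv_mul_eq_one] at h4
  exact hne (Subtype.ext h4)

theorem row_three : CRow 3 Suz := by
  have hp : Fact (Nat.Prime 3) := ⟨Nat.prime_three⟩
  have hs := simpleSuz
  have hfin := finSuz
  intro C hC c hc
  by_contra hc1
  have hodd := odd_of_bal (by norm_num) center_suz hC bal hc hc1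
  have hi : ¬ 3 ∣ NA.index := by rw [NA_index]; norm_num
  have htop : NA ≠ ⊤ := by
    intro h
    have h1 := NA_index
    rw [h, index_top] at h1
    omega
  obtain ⟨g, hg⟩ := hC.exists_conj_mem hi hc
  have h1 := mem_A0_of_pCore (hC.loc NA htop _ (hC.conj g c hc) hg)
  exact even_A0 h1 (even_of_conj hodd (isConj_iff.2 ⟨g, rfl⟩))

/-- **The row `Suz`.** -/
theorem crow {p : ℕ} [hp : Fact p.Prime] : CRow p Suz := by
  by_cases h : p ∣ 1782
  · have h1 : (1782 : ℕ) = 2 * 3 ^ 4 * 11 := by norm_num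
    rw [h1] at h
    rcases (Nat.Prime.dvd_mul hp.out).1 h with h | h
    · rcases (Nat.Prime.dvd_mul hp.out).1 h with h | h
      · have := (Nat.prime_dvd_prime_iff_eq hp.out Nat.prime_two).1 h
        subst this
        exact row_two
      · have := (Nat.prime_dvd_prime_iff_eq hp.out Nat.prime_three).1 (hp.out.dvd_of_dvd_pow h)
        subst this
        exact row_three
    · have := (Nat.prime_dvd_prime_iff_eq hp.out (by norm_num : Nat.Prime 11)).1 h
      subst this
      exact row_eleven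
  · exact row_sub h

/-- **The row `Suz`, for every group isomorphic to `Suz`.** -/
theorem crow_suz {K : Type*} [Group K] (h : Cfsg.Spor.IsoSuz K) {p : ℕ} [hp : Fact p.Prime] : CRow p K := by
  obtain ⟨e⟩ := h
  exact crow.of_equiv e

end Cfsg.Agent.H874.CCSuz
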