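import Cfsg.Agent.H98.Ore.Defs
import Cfsg.Agent.H216.Cov.Pole
import Cfsg.Agent.H560.CovC
import Cfsg.Agent.H140.OreO.GLConj

/-!
# S2446, task T3: scalar times a transvection as a commutator in `GL_m` (helper874)
-/

set_option autoImplicit false

namespace Cfsg.Agent.H874.OreTransv

open Module Polynomial Cfsg.Agent.H951 Matrix Cfsg.Agent.H98.Ore

universe u

/-- a functional not vanishing on two nonzero vectors -/
theorem exists_dot_ne {F : Type*} [Field F] {ι : Type*} [Fintype ι] [DecidableEq ι] {x y : ι → F} (hx : x ≠ 0)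
    (hy : y ≠ 0) : ∃ ψ : ι → F, ψ ⬝ᵥ x ≠ 0 ∧ ψ ⬝ᵥ y ≠ 0 := by
  obtain ⟨i, hi⟩ := Function.ne_iff.1 hx
  obtain ⟨j, hj⟩ := Function.ne_iff.1 hy
  rw [Pi.zero_apply] at hi hj
  by_cases h1 : y i = 0
  · by_cases h2 : x j = 0
    · refine ⟨Pi.single i 1 + Pi.single j 1, ?_, ?_⟩
      · rw [add_dotProduct, single_one_dotProduct, single_one_dotProduct, h2, add_zero]; exact hi
      · rw [add_dotProduct, single_one_dotProduct, single_one_dotProduct, h1, zero_add]; exact hj
    · exact ⟨Pi.single j 1, by rw [single_one_dotProduct]; exact h2, by rw [single_one_dotProduct]; exact hj⟩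
  · exact ⟨Pi.single i 1, by rw [single_one_dotProduct]; exact hi, by rw [single_one_dotProduct]; exact h1⟩

theorem det_one_add_vecMulVec {F : Type*} [Field F] {ι : Type*} [Fintype ι] [DecidableEq ι] (x y : ι → F) :
    (1 + vecMulVec x y).det = 1 + y ⬝ᵥ x := by
  rw [vecMulVec_eq Unit, det_one_add_replicateCol_mul_replicateRow]

/-- an invariant subspace of an endomorphism with irreducible characteristic polynomial -/
theorem eq_bot_or_top {F : Type u} [Field F] {V : Type u} [AddCommGroup V] [Module F V] [FiniteDimensional F V]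
    {T : End F V} (h : Irreducible (LinearMap.charpoly T)) {S : Submodule F V} (hS : ∀ x ∈ S, T x ∈ S) :
    S = ⊥ ∨ S = ⊤ := by
  rcases eq_or_ne S ⊥ with h1 | h1
  · exact Or.inl h1
  · right
    have hnt : Nontrivial S := Submodule.nontrivial_iff_ne_bot.2 h1
    have h2 : aeval (T.restrict hS) (LinearMap.charpoly T) = 0 := by
      ext x
      have h3 : ∀ p : F[X], ((aeval (T.restrict hS) p x : S) : V) = aeval T p x := by
        intro p
        exact (Cfsg.Agent.H560.CovC.aeval_apply_of_comm (S := T.restrict hS) (T := T) S.subtype (fun _ => rfl) p x)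
      rw [h3, LinearMap.aeval_self_charpoly]
      rfl
    have h3 : minpoly F (T.restrict hS) = LinearMap.charpoly T :=
      (minpoly.eq_of_irreducible_of_monic h h2 (LinearMap.charpoly_monic T)).symm
    have h4 := LinearMap.minpoly_dvd_charpoly (T.restrict hS)
    have h5 := natDegree_le_of_dvd h4 (LinearMap.charpoly_monic _).ne_zero
    rw [h3, LinearMap.charpoly_natDegree, LinearMap.charpoly_natDegree] at h5
    exact Submodule.eq_top_of_finrank_eq (le_antisymm (Submodule.finrank_le S) h5)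

theorem gl_transv {F : Type u} [Field F] [Finite F] {ι : Type} [Fintype ι] [DecidableEq ι]
    (l : F) (hl : l ^ Fintype.card ι = 1) (u φ : ι → F) (hu : u ≠ 0) (hφ : φ ≠ 0) (huφ : φ ⬝ᵥ u = 0)
    (f : F[X]) (hf : Irreducible f) (hfm : f.Monic) (hfd : f.natDegree = Fintype.card ι) (hι : 2 ≤ Fintype.card ι)
    (hfl : f.scaleRoots l ≠ f) :
    ∃ Z h : Matrix ι ι F, Z.charpoly = f ∧ h.det = 1 ∧ (l • (1 + Matrix.vecMulVec u φ)) * Z * h = h * Z := by
  classical
  have hl0 : l ≠ 0 := by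
    rintro rfl
    rw [zero_pow (by omega)] at hl
    exact zero_ne_one hl
  have hfr : finrank F (ι → F) = Fintype.card ι := finrank_fintype_fun_eq_card F
  obtain ⟨T₀, -, hT₀⟩ := Cfsg.Agent.H560.CovC.exists_coc (V := ι → F) hfm (hfd.trans hfr.symm)
  let φ' : (ι → F) →ₗ[F] F :=
    { toFun := fun v => φ ⬝ᵥ v
      map_add' := fun v w => dotProduct_add _ _ _
      map_smul' := fun c v => dotProduct_smul _ _ _ }
  have hφ' : ∀ v, φ' v = φ ⬝ᵥ v := fun _ => rfl
  have hobs : Cfsg.Agent.H166.Cov.Obs φ' (l • T₀) := by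
    intro S h1 h2
    have h3 : ∀ x ∈ S, T₀ x ∈ S := by
      intro x hx
      have := S.smul_mem l⁻¹ (h2 x hx)
      rwa [LinearMap.smul_apply, smul_smul, inv_mul_cancel₀ hl0, one_smul] at this
    rcases eq_bot_or_top (by rw [hT₀]; exact hf) h3 with h4 | h4
    · exact h4
    · exfalso
      obtain ⟨i, hi⟩ := Function.ne_iff.1 hφ
      apply hi
      have := h1 (Pi.single i 1) (by rw [h4]; trivial)
      rwa [hφ', dotProduct_single_one] at this
  obtain ⟨b, hb⟩ := Cfsg.Agent.H216.Pole.exists_charpoly_add hobs hfm (hfd.trans hfr.symm)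
  set Z₀ := LinearMap.toMatrix' T₀ with hZ₀
  have hZ₀c : Z₀.charpoly = f := by rw [hZ₀, ← LinearMap.toMatrix_eq_toMatrix', LinearMap.charpoly_toMatrix, hT₀]
  have hM : (l • Z₀ + vecMulVec b φ).charpoly = f := by
    have h1 : LinearMap.toMatrix' (l • T₀ + φ'.smulRight b) = l • Z₀ + vecMulVec b φ := by
      rw [map_add, map_smul]
      congr 1
      ext i j
      rw [LinearMap.toMatrix'_apply, LinearMap.smulRight_apply, hφ', dotProduct_single_one, vecMulVec_apply,
        Pi.smul_apply, smul_eq_mul, mul_comm]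
    rw [← h1, ← LinearMap.toMatrix_eq_toMatrix', LinearMap.charpoly_toMatrix, hb]
  -- `det Z₀ ≠ 0`
  have hdet : Z₀.det ≠ 0 := by
    rw [det_eq_sign_charpoly_coeff, hZ₀c]
    refine mul_ne_zero (pow_ne_zero _ (neg_ne_zero.2 one_ne_zero)) fun h0 => ?_
    have h1 : X ∣ f := X_dvd_iff.2 h0
    obtain ⟨g, hg⟩ := h1
    rcases hf.isUnit_or_isUnit hg with h2 | h2
    · exact Polynomial.not_isUnit_X h2
    · have h3 := natDegree_mul_le (p := X) (q := g)
      rw [← hg, natDegree_X, natDegree_eq_zero_of_isUnit h2, hfd] at h3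
      omega
  have hdu : IsUnit Z₀.det := isUnit_iff_ne_zero.2 hdet
  have hdetM : (l • Z₀ + vecMulVec b φ).det = Z₀.det := by
    rw [det_eq_sign_charpoly_coeff, det_eq_sign_charpoly_coeff, hM, hZ₀c]
  -- `b ≠ 0`
  have hb0 : b ≠ 0 := by
    rintro rfl
    rw [zero_vecMulVec, add_zero] at hM
    apply hfl
    have h1 : aeval (l • Z₀) f = 0 := by
      have := Matrix.aeval_self_charpoly (l • Z₀)
      rwa [hM] at this
    have h2 : aeval (l • Z₀) (f.scaleRoots l) = 0 := by
      have h3 : aeval Z₀ f = 0 := by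
        have := Matrix.aeval_self_charpoly Z₀
        rwa [hZ₀c] at this
      have := scaleRoots_aeval_eq_zero (r := l) h3
      rwa [← Algebra.smul_def] at this
    have : Nonempty ι := Fintype.card_pos_iff.1 (by omega)
    have h3 : minpoly F (l • Z₀) = f := (minpoly.eq_of_irreducible_of_monic hf h1 hfm).symm
    have h4 : f ∣ f.scaleRoots l := by
      rw [← h3]
      conv_rhs => rw [h3]
      exact minpoly.dvd _ _ h2
    exact (eq_of_monic_of_dvd_of_natDegree_le hfm ((monic_scaleRoots_iff l).2 hfm) h4 (natDegree_scaleRoots f l).le)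
  -- `u₀`
  set u₀ : ι → F := l⁻¹ • (Z₀⁻¹ *ᵥ b) with hu₀
  have hZu : l • (Z₀ *ᵥ u₀) = b := by
    rw [hu₀, mulVec_smul, smul_smul, mul_inv_cancel₀ hl0, one_smul, mulVec_mulVec, mul_nonsing_inv _ hdu, one_mulVec]
  have hu₀0 : u₀ ≠ 0 := by
    intro h
    rw [h, mulVec_zero, smul_zero] at hZu
    exact hb0 hZu.symm
  set P₀ : Matrix ι ι F := l • (1 + vecMulVec u₀ φ) with hP₀
  have hZP : Z₀ * P₀ = l • Z₀ + vecMulVec b φ := by
    rw [hP₀, mul_smul_comm, mul_add, mul_one, mul_vecMulVec, smul_add, ← smul_vecMulVec, hZu]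
  have hPdet : P₀.det = 1 := by
    have h1 : Z₀.det * P₀.det = Z₀.det := by rw [← det_mul, hZP, hdetM]
    exact mul_left_cancel₀ hdet (by rw [h1, mul_one])
  have hφu₀ : φ ⬝ᵥ u₀ = 0 := by
    rw [hP₀, det_smul, hl, one_mul, det_one_add_vecMulVec] at hPdet
    linear_combination hPdet
  -- the conjugating matrix
  obtain ⟨ψ, hψ1, hψ2⟩ := exists_dot_ne hu₀0 hu
  set k : Matrix ι ι F := 1 + vecMulVec (u - u₀) ((ψ ⬝ᵥ u₀)⁻¹ • ψ) with hk
  have hkdet : k.det ≠ 0 := by
    rw [hk, det_one_add_vecMulVec, smul_dotProduct, dotProduct_sub, smul_eq_mul, mul_sub, inv_mul_cancel₀ hψ1,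
      add_sub_cancel]
    exact mul_ne_zero (inv_ne_zero hψ1) hψ2
  have hku : IsUnit k.det := isUnit_iff_ne_zero.2 hkdet
  have hku₀ : k *ᵥ u₀ = u := by
    rw [hk, add_mulVec, one_mulVec, vecMulVec_mulVec, smul_dotProduct, smul_eq_mul, inv_mul_cancel₀ hψ1]
    simp
  have hφk : φ ᵥ* k = φ := by
    rw [hk, vecMul_add, vecMul_one, vecMul_vecMulVec, dotProduct_sub, huφ, hφu₀, sub_self, zero_smul, add_zero]
  have hkP : (l • (1 + vecMulVec u φ)) * k = k * P₀ := by
    rw [hP₀, smul_mul_assoc, mul_smul_comm, add_mul, one_mul, vecMulVec_mul, hφk, mul_add k, mul_one, mul_vecMulVec,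
      hku₀]
  set Z : Matrix ι ι F := k * Z₀ * k⁻¹ with hZ
  have hZc : Z.charpoly = f := by
    rw [hZ, charpoly_mul_comm, ← mul_assoc, nonsing_inv_mul _ hku, one_mul, hZ₀c]
  have hPZ : (l • (1 + vecMulVec u φ)) * Z = k * (P₀ * Z₀) * k⁻¹ := by
    rw [hZ, ← mul_assoc, ← mul_assoc, hkP, mul_assoc k P₀]
  have hPZc : ((l • (1 + vecMulVec u φ)) * Z).charpoly = f := by
    rw [hPZ, charpoly_mul_comm, ← mul_assoc, nonsing_inv_mul _ hku, one_mul, charpoly_mul_comm, hZP, hM]
  have aX : ∀ (A : Matrix ι ι F), A.charpoly = f → aeval (Matrix.toLin' A) f = 0 := by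
    intro A hA
    have h1 : aeval (Matrix.toLin' A) f = Matrix.toLin' (aeval A f) :=
      Polynomial.aeval_algHom_apply (Matrix.toLinAlgEquiv' (R := F) (n := ι)).toAlgHom A f
    have h2 := Matrix.aeval_self_charpoly A
    rw [hA] at h2
    rw [h1, h2, map_zero]
  obtain ⟨T, hT, hTdet⟩ := Cfsg.Agent.H140.OreO.exists_conj (Matrix.toLin' ((l • (1 + vecMulVec u φ)) * Z))
    (Matrix.toLin' Z) f hf (aX _ hPZc) (aX _ hZc) (hfr.trans hfd.symm) 1 one_ne_zero
  refine ⟨Z, LinearMap.toMatrix' (T : (ι → F) →ₗ[F] (ι → F)), hZc, by rw [LinearMap.det_toMatrix', hTdet], ?_⟩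
  apply Matrix.toLin'.injective
  rw [Matrix.toLin'_mul, Matrix.toLin'_mul (LinearMap.toMatrix' _) Z, Matrix.toLin'_toMatrix']
  apply LinearMap.ext
  intro w
  exact (hT w).symm

end Cfsg.Agent.H874.OreTransv
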