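import Cfsg.Agent.H162.CC.Tools3

/-!
# Tools for the rows of S3828 (helper874): balanced involutions

* `Min.odd_of_bal` : if every involution is conjugate to one with `O_{2'}(C(t)) = 1`, the elements of `C#` have
  centralizers of odd order (`p` odd);
* `Min.eq_one_of_classes` : moreover if `p² ∤ |G|` and there are two classes of involutions then `C` is trivial.
-/

set_option autoImplicit false

namespace Cfsg.Agent.H874.CCBal

open Subgroup Cfsg Cfsg.Agent.Lib.Cores Cfsg.Agent.H162.CCR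

variable {G : Type*} [Group G] {p : ℕ} {C : Set G}

/-- `O_p(C(t)) = 1` if `O_{2'}(C(t)) = 1` and `p` is odd -/
theorem pCore_eq_bot [Finite G] [hp : Fact p.Prime] (hp2 : p ≠ 2) {t : G} (h : centralizerPPrimeCore 2 t = ⊥) :
    pCore p ↥(centralizer ({t} : Set G)) = ⊥ := by
  have h1 : pCore p ↥(centralizer ({t} : Set G)) ≤ pPrimeCore 2 ↥(centralizer ({t} : Set G)) := by
    refine le_pPrimeCore inferInstance ?_
    obtain ⟨n, hn⟩ := IsPGroup.iff_card.1 (pCore_isPGroup (G := ↥(centralizer ({t} : Set G))) p)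
    rw [hn]
    exact Nat.Coprime.pow_left n ((Nat.coprime_primes hp.out Nat.prime_two).2 hp2)
  have h2 : pPrimeCore 2 ↥(centralizer ({t} : Set G)) = ⊥ := by
    unfold centralizerPPrimeCore at h
    exact (map_eq_bot_iff_of_injective _ (subtype_injective _)).1 h
  rw [h2] at h1
  exact le_bot_iff.1 h1

/-- the same for a conjugate -/
theorem pCore_eq_bot_of_isConj [Finite G] [hp : Fact p.Prime] (hp2 : p ≠ 2) {s t : G}
    (h : centralizerPPrimeCore 2 s = ⊥) (hst : IsConj s t) : pCore p ↥(centralizer ({t} : Set G)) = ⊥ := by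
  obtain ⟨g, rfl⟩ := isConj_iff.1 hst
  have h1 := pCore_eq_bot (p := p) hp2 h
  have hmap : (centralizer ({s} : Set G)).map (MulAut.conj g).toMonoidHom = centralizer ({g * s * g⁻¹} : Set G) := by
    ext x
    rw [mem_centralizer_singleton_iff]
    constructor
    · rintro ⟨y, hy, rfl⟩
      have hy' := mem_centralizer_singleton_iff.1 hy
      show g * y * g⁻¹ * (g * s * g⁻¹) = g * s * g⁻¹ * (g * y * g⁻¹)
      calc g * y * g⁻¹ * (g * s * g⁻¹) = g * (y * s) * g⁻¹ := by group
        _ = g * s * g⁻¹ * (g * y * g⁻¹) := by rw [hy']; group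
    · intro hx
      refine ⟨g⁻¹ * x * g, mem_centralizer_singleton_iff.2 ?_, by simp [mul_assoc]⟩
      calc g⁻¹ * x * g * s = g⁻¹ * (x * (g * s * g⁻¹)) * g := by group
        _ = s * (g⁻¹ * x * g) := by rw [hx]; group
  let f : ↥(centralizer ({s} : Set G)) ≃* ↥(centralizer ({g * s * g⁻¹} : Set G)) :=
    ((MulAut.conj g).subgroupMap _).trans (MulEquiv.subgroupCongr hmap)
  rw [← map_equiv_pCore f p, h1, Subgroup.map_bot]

/-- the centralizer of a non-trivial element is proper -/
theorem centralizer_ne_top (hZ : center G = ⊥) {t : G} (h1 : t ≠ 1) : centralizer ({t} : Set G) ≠ ⊤ := by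
  intro h
  apply h1
  rw [← mem_bot, ← hZ, mem_center_iff]
  intro g
  have : g ∈ centralizer ({t} : Set G) := by rw [h]; trivial
  exact mem_centralizer_singleton_iff.1 this

/-- **The elements of `C#` commute with no involution.** -/
theorem odd_of_bal [Finite G] [hp : Fact p.Prime] (hp2 : p ≠ 2) (hZ : center G = ⊥) (h : Min p C)
    (hb : ∀ t : G, t * t = 1 → t ≠ 1 → ∃ s, IsConj s t ∧ centralizerPPrimeCore 2 s = ⊥) {c : G} (hc : c ∈ C)
    (hc1 : c ≠ 1) : Odd (Nat.card (centralizer ({c} : Set G))) := by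
  refine h.odd_centralizer ?_ hc hc1
  intro t ht1 ht
  obtain ⟨s, hst, hs⟩ := hb t ht ht1
  exact ⟨centralizer {t}, centralizer_ne_top hZ ht1, le_rfl, pCore_eq_bot_of_isConj hp2 hs hst⟩

/-- **Two classes of involutions, `p² ∤ |G|`.** -/
theorem eq_one_of_classes [Finite G] [hp : Fact p.Prime] (hp2 : p ≠ 2) (hs : IsSimpleGroup G) (hZ : center G = ⊥)
    (hO : pCore p G = ⊥) (hcard : ¬ p ^ 2 ∣ Nat.card G) (h : Min p C)
    (hb : ∀ t : G, t * t = 1 → t ≠ 1 → ∃ s, IsConj s t ∧ centralizerPPrimeCore 2 s = ⊥) {s t : G} (hs2 : s * s = 1)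
    (hs1 : s ≠ 1) (ht2 : t * t = 1) (ht1 : t ≠ 1) (hst : ¬ IsConj s t) : ∀ c ∈ C, c = 1 := by
  intro c hc
  by_contra hc1
  exact hst (h.isConj_of_cyclic hs hO hcard hc hc1 (fun d hd hd1 => odd_of_bal hp2 hZ h hb hd hd1) hs2 hs1 ht2 ht1)

/-- a `p`-element of odd centralizer order commutes with no involution -/
theorem false_of_invol [Finite G] {c t : G} (h : Odd (Nat.card (centralizer ({c} : Set G)))) (ht : orderOf t = 2)
    (hct : t * c = c * t) : False := by
  have h1 : orderOf t ∣ Nat.card (centralizer ({c} : Set G)) :=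
    Subgroup.orderOf_dvd_natCard _ (mem_centralizer_singleton_iff.2 hct)
  rw [ht] at h1
  exact (Nat.not_even_iff_odd.2 h) (even_iff_two_dvd.2 h1)

/-- the same for conjugates -/
theorem even_of_conj [Finite G] {c d : G} (h : Odd (Nat.card (centralizer ({c} : Set G)))) (hcd : IsConj c d) :
    Odd (Nat.card (centralizer ({d} : Set G))) := by
  obtain ⟨g, rfl⟩ := isConj_iff.1 hcd
  by_contra hcon
  rw [Nat.not_odd_iff_even, even_iff_two_dvd] at hcon
  have : Fact (Nat.Prime 2) := ⟨Nat.prime_two⟩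
  obtain ⟨t, ht⟩ := exists_prime_orderOf_dvd_card' 2 hcon
  have h1 := mem_centralizer_singleton_iff.1 t.2
  refine false_of_invol h (t := g⁻¹ * t * g) ?_ ?_
  · have e : g⁻¹ * (t : G) * g = MulAut.conj g⁻¹ (t : G) := by simp
    rw [e, MulEquiv.orderOf_eq, Subgroup.orderOf_coe, ht]
  · calc g⁻¹ * (t : G) * g * c = g⁻¹ * ((t : G) * (g * c * g⁻¹)) * g := by group
      _ = c * (g⁻¹ * t * g) := by rw [h1]; group

end Cfsg.Agent.H874.CCBal
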