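import Cfsg.Agent.H874.LevelE
import Cfsg.Agent.H889.C7.CaseIIb

/-!
# The end argument for `k = 2`, `q` odd, even tensor powers (`S5706`)

Only even permutations of the slots are available; the level is raised up to `t - 1`.
-/

set_option autoImplicit false
set_option linter.unusedSimpArgs false
set_option linter.unusedVariables false
set_option linter.unusedSectionVars false

namespace Cfsg.Agent.H874

open Matrix Cfsg.Agent.H889

variable {F : Type*} [Field F] {k t : ℕ}

section Slots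

variable {ω : (Fin k → F) →ₗ[F] (Fin k → F) →ₗ[F] F} {M : Subgroup (Module.End F ((Fin t → Fin k) → F))ˣ}

/-- The symmetries of `M` used to raise the level, only even permutations. -/
structure LevelAlt (ω : (Fin k → F) →ₗ[F] (Fin k → F) →ₗ[F] F)
    (M : Subgroup (Module.End F ((Fin t → Fin k) → F))ˣ) : Prop where
  pure_mem : ∀ g g' : Fin t → Matrix (Fin k) (Fin k) F, (∀ i, g i * g' i = 1) → (∀ i, g' i * g i = 1) →
    (∀ i x y, ω (g i *ᵥ x) (g i *ᵥ y) = ω x y) → ∃ u ∈ M, (u : Module.End F ((Fin t → Fin k) → F)) = PM g ∧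
      ((u⁻¹ : (Module.End F ((Fin t → Fin k) → F))ˣ) : Module.End F ((Fin t → Fin k) → F)) = PM g'
  perm_mem : ∀ σ : Equiv.Perm (Fin t), Equiv.Perm.sign σ = 1 → ∃ u ∈ M, ∀ A : Fin t → Matrix (Fin k) (Fin k) F,
    (u : Module.End F ((Fin t → Fin k) → F)) * PM A = PM (fun i => A (σ i)) * u

theorem In.conj_pureA (hM : LevelAlt ω M) {g g' : Fin t → Matrix (Fin k) (Fin k) F} (h1 : ∀ i, g i * g' i = 1)
    (h2 : ∀ i, g' i * g i = 1) (h3 : ∀ i x y, ω (g i *ᵥ x) (g i *ᵥ y) = ω x y) {A : Fin t → Matrix (Fin k) (Fin k) F}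
    {c : F} (hA : In M (c • PM A)) : In M (c • PM fun i => g i * A i * g' i) := by
  obtain ⟨u, hu, hu1, hu2⟩ := hM.pure_mem g g' h1 h2 h3
  have h4 := hA.conj hu
  rwa [hu1, hu2, mul_smul_comm, smul_mul_assoc, PM_mul, PM_mul] at h4

theorem In.conj_permA (hM : LevelAlt ω M) (σ : Equiv.Perm (Fin t)) (hσ : Equiv.Perm.sign σ = 1)
    {A : Fin t → Matrix (Fin k) (Fin k) F}
    {c : F} (hA : In M (c • PM A)) : In M (c • PM fun i => A (σ i)) := by
  obtain ⟨u, hu, hu1⟩ := hM.perm_mem σ hσ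
  have h4 := hA.conj hu
  rwa [mul_smul_comm, smul_mul_assoc, hu1, mul_assoc, Units.mul_inv, mul_one] at h4

theorem hasD_ofA (hM : LevelAlt ω M) (hω : ∀ w, ω w w = 0)
    (hex : ∀ u v : Fin k → F, u ≠ 0 → v ≠ 0 → ∃ x, ω u x ≠ 0 ∧ ω v x ≠ 0) {c : F} {I : Finset (Fin t)}
    {u : Fin t → (Fin k → F)} (hu : ∀ i ∈ I, u i ≠ 0) (h : In M (c • PM (dI ω I u))) : HasD ω M c I := by
  intro u' hu'
  have h1 : ∀ i, ∃ gg : Matrix (Fin k) (Fin k) F × Matrix (Fin k) (Fin k) F, gg.1 * gg.2 = 1 ∧ gg.2 * gg.1 = 1 ∧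
      (∀ x y, ω (gg.1 *ᵥ x) (gg.1 *ᵥ y) = ω x y) ∧ (i ∈ I → gg.1 *ᵥ u i = u' i) := by
    intro i
    by_cases hi : i ∈ I
    · obtain ⟨g, g', h1, h2, h3, h4⟩ := exists_isom hω hex (hu i hi) (hu' i)
      exact ⟨(g, g'), h1, h2, h3, fun _ => h4⟩
    · exact ⟨(1, 1), mul_one _, mul_one _, fun x y => by rw [Matrix.one_mulVec, Matrix.one_mulVec], fun h => absurd h hi⟩
  choose gg h1 h2 h3 h4 using h1
  have h5 := h.conj_pureA hM h1 h2 h3
  have h6 : (fun i => (gg i).1 * dI ω I u i * (gg i).2) = dI ω I u' := by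
    funext i
    by_cases hi : i ∈ I
    · simp only [dI, if_pos hi]
      rw [conj_eM (h1 i) (h3 i), h4 i hi]
    · simp only [dI, if_neg hi, mul_one, h1]
  rwa [h6] at h5

/-- Moving `I` to `I'` by an even permutation. -/
theorem exists_even_perm {I I' : Finset (Fin t)} (hc : I.card = I'.card) (h2 : 2 ≤ I.card) :
    ∃ σ : Equiv.Perm (Fin t), Equiv.Perm.sign σ = 1 ∧ ∀ i, σ i ∈ I ↔ i ∈ I' := by
  classical
  have e : {i // i ∈ I'} ≃ {i // i ∈ I} := Fintype.equivOfCardEq (by simp [hc])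
  let σ : Equiv.Perm (Fin t) := e.extendSubtype
  have h3 : ∀ i, σ i ∈ I ↔ i ∈ I' := by
    intro i
    constructor
    · intro hi
      by_contra hi'
      exact (e.extendSubtype_not_mem i hi') hi
    · intro hi
      exact e.extendSubtype_mem i hi
  rcases Int.units_eq_one_or (Equiv.Perm.sign σ) with h | h
  · exact ⟨σ, h, h3⟩
  · obtain ⟨a, ha, b, hb, hab⟩ := Finset.one_lt_card.1 (show 1 < I.card by omega)
    refine ⟨Equiv.swap a b * σ, ?_, fun i => ?_⟩
    · rw [Equiv.Perm.sign_mul, Equiv.Perm.sign_swap hab, h]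
      decide
    · rw [← h3 i, Equiv.Perm.mul_apply]
      by_cases h4 : σ i = a
      · rw [h4, Equiv.swap_apply_left]
        exact ⟨fun _ => ha, fun _ => hb⟩
      by_cases h5 : σ i = b
      · rw [h5, Equiv.swap_apply_right]
        exact ⟨fun _ => hb, fun _ => ha⟩
      rw [Equiv.swap_apply_of_ne_of_ne h4 h5]

theorem hasD_permA (hM : LevelAlt ω M) {c : F} {I I' : Finset (Fin t)} (hc : I.card = I'.card) (h2 : 2 ≤ I.card)
    (h : HasD ω M c I) : HasD ω M c I' := by
  intro u' hu'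
  obtain ⟨σ, hσ, h3⟩ := exists_even_perm hc h2
  have h1 := (h (fun i => u' (σ.symm i)) fun i => hu' _).conj_permA hM σ hσ
  have h2 : (fun i => dI ω I (fun i => u' (σ.symm i)) (σ i)) = dI ω I' u' := by
    funext i
    simp only [dI, h3, Equiv.symm_apply_apply]
  rwa [h2] at h1

/-- Raising the level by two. -/
theorem hasD_stepA [NeZero k] {p : ℕ} [CharP F p] (hp : Odd p) (hω : ∀ w, ω w w = 0)
    (hn : ∀ w, (∀ x, ω w x = 0) → w = 0) (hroot : ∀ j v, In M (sl j (eM ω v v))) {c : F} {n : ℕ}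
    (hodd : Odd n) (h3 : 3 ≤ n) (h : ∀ I : Finset (Fin t), I.card = n → HasD ω M c I) {I' : Finset (Fin t)}
    (hI' : I'.card = n + 2) : HasD ω M (2 * c * c) I' := by
  classical
  have skew : ∀ a b, ω a b = - ω b a := by
    intro x y
    have h := hω (x + y)
    simp only [map_add, LinearMap.add_apply, hω, zero_add, add_zero] at h
    exact eq_neg_of_add_eq_zero_left (by rw [add_comm]; exact h)
  intro u hu
  -- four distinct members of `I'`
  obtain ⟨J, hJ, hJ4⟩ := Finset.exists_subset_card_eq (show 4 ≤ I'.card by omega)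
  obtain ⟨J1, hJ1, hJ12⟩ := Finset.exists_subset_card_eq (show 2 ≤ J.card by omega)
  have hJ2 : (J \ J1).card = 2 := by rw [Finset.card_sdiff_of_subset hJ1]; omega
  have hQc : (I' \ J).card = n - 2 := by rw [Finset.card_sdiff_of_subset hJ]; omega
  -- the vectors for the other slots
  have hf : ∀ i, ∃ f, ω (u i) f = 1 := by
    intro i
    by_contra hcon
    push Not at hcon
    refine hu i (hn _ fun x => ?_)
    by_contra hx
    refine hcon ((ω (u i) x)⁻¹ • x) ?_
    rw [map_smul, smul_eq_mul, inv_mul_cancel₀ hx]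
  choose f hf using hf
  have hf0 : ∀ i, f i ≠ 0 := by
    intro i h0
    have := hf i
    rw [h0, map_zero] at this
    exact zero_ne_one this
  have hf0' : ∀ i, -u i - f i ≠ 0 := by
    intro i h0
    have h1 : ω (-u i - f i) (f i) = 0 := by rw [h0, map_zero, LinearMap.zero_apply]
    rw [map_sub, map_neg, LinearMap.sub_apply, LinearMap.neg_apply, hf, hω, sub_zero] at h1
    exact one_ne_zero (neg_eq_zero.1 h1)
  have hx : In M (c • PM (dI ω ((I' \ J) ∪ J1) fun i => if i ∈ I' \ J then f i else u i)) := by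
    refine h _ ?_ _ fun i => ?_
    · rw [Finset.card_union_of_disjoint, hQc, hJ12]
      · omega
      · refine Finset.disjoint_left.2 fun i hi hi' => ?_
        exact (Finset.mem_sdiff.1 hi).2 (hJ1 hi')
    · split_ifs
      · exact hf0 i
      · exact hu i
  have hy : In M (c • PM (dI ω ((I' \ J) ∪ (J \ J1)) fun i => if i ∈ I' \ J then -u i - f i else u i)) := by
    refine h _ ?_ _ fun i => ?_
    · rw [Finset.card_union_of_disjoint, hQc, hJ2]
      · omega
      · refine Finset.disjoint_left.2 fun i hi hi' => ?_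
        exact (Finset.mem_sdiff.1 hi).2 (Finset.mem_sdiff.1 hi').1
    · split_ifs
      · exact hf0' i
      · exact hu i
  obtain ⟨a, ha⟩ : J1.Nonempty := by rw [← Finset.card_pos]; omega
  obtain ⟨b, hb⟩ : (J \ J1).Nonempty := by rw [← Finset.card_pos]; omega
  have haJ : a ∈ J := hJ1 ha
  have hbJ : b ∈ J := (Finset.mem_sdiff.1 hb).1
  have hb1 : b ∉ J1 := (Finset.mem_sdiff.1 hb).2
  have haI : a ∈ I' := hJ haJ
  have hbI : b ∈ I' := hJ hbJ
  refine key hp hω hroot (A := dI ω ((I' \ J) ∪ J1) fun i => if i ∈ I' \ J then f i else u i)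
    (B := dI ω ((I' \ J) ∪ (J \ J1)) fun i => if i ∈ I' \ J then -u i - f i else u i)
    (ε := fun i => if i ∈ I' \ J then -1 else 1) (Q := I' \ J) (w := u) (a0 := a) ?_ ?_ hx hy ?_ ?_ ?_ ?_ ?_ ?_ ?_
  · intro h; exact (Finset.mem_sdiff.1 h).2 haJ
  · simp only [dI, if_pos haI]
    exact eM_sq ω (hω _)
  · refine ⟨a, ?_⟩
    have h1 : a ∈ (I' \ J) ∪ J1 := Finset.mem_union_right _ ha
    simp only [dI, if_pos h1]
    exact eM_sq ω (hω _)
  · refine ⟨b, ?_⟩
    have h1 : b ∈ (I' \ J) ∪ (J \ J1) := Finset.mem_union_right _ hb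
    simp only [dI, if_pos h1]
    exact eM_sq ω (hω _)
  · refine ⟨a, ?_⟩
    have h1 : a ∈ (I' \ J) ∪ J1 := Finset.mem_union_right _ ha
    have h2 : a ∉ (I' \ J) ∪ (J \ J1) := by
      simp only [Finset.mem_union, Finset.mem_sdiff, haJ, ha, not_true, and_false, or_false, not_false_iff]
    simp only [dI, if_pos h1, if_neg h2, mul_one]
    exact eM_sq ω (hω _)
  · refine ⟨b, ?_⟩
    have h1 : b ∈ (I' \ J) ∪ (J \ J1) := Finset.mem_union_right _ hb
    have h2 : b ∉ (I' \ J) ∪ J1 := by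
      simp only [Finset.mem_union, Finset.mem_sdiff, hbJ, hb1, not_true, and_false, or_false, not_false_iff]
    simp only [dI, if_pos h1, if_neg h2, mul_one]
    exact eM_sq ω (hω _)
  · intro i hi
    simp only [if_neg hi, one_smul]
    by_cases hiI : i ∈ I'
    · have hiJ : i ∈ J := by
        by_contra h
        exact hi (Finset.mem_sdiff.2 ⟨hiI, h⟩)
      by_cases hi1 : i ∈ J1
      · have h1 : i ∈ (I' \ J) ∪ J1 := Finset.mem_union_right _ hi1
        have h2 : i ∉ (I' \ J) ∪ (J \ J1) := by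
          simp only [Finset.mem_union, Finset.mem_sdiff, hiJ, hi1, not_true, and_false, or_false, not_false_iff]
        simp only [dI, if_pos h1, if_neg h2, if_pos hiI, if_neg hi, mul_one, one_mul, and_self]
      · have h1 : i ∈ (I' \ J) ∪ (J \ J1) := Finset.mem_union_right _ (Finset.mem_sdiff.2 ⟨hiJ, hi1⟩)
        have h2 : i ∉ (I' \ J) ∪ J1 := by
          simp only [Finset.mem_union, Finset.mem_sdiff, hiJ, hi1, not_true, and_false, or_false, not_false_iff]
        simp only [dI, if_pos h1, if_neg h2, if_pos hiI, if_neg hi, mul_one, one_mul, and_self]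
    · have h1 : i ∉ (I' \ J) ∪ (J \ J1) := by
        intro h
        rcases Finset.mem_union.1 h with h | h
        · exact hi h
        · exact hiI (hJ (Finset.mem_sdiff.1 h).1)
      have h2 : i ∉ (I' \ J) ∪ J1 := by
        intro h
        rcases Finset.mem_union.1 h with h | h
        · exact hi h
        · exact hiI (hJ (hJ1 h))
      simp only [dI, if_neg h1, if_neg h2, if_neg hiI, mul_one, and_self]
  · intro i hi
    have hiI : i ∈ I' := (Finset.mem_sdiff.1 hi).1
    have h1 : i ∈ (I' \ J) ∪ (J \ J1) := Finset.mem_union_left _ hi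
    have h2 : i ∈ (I' \ J) ∪ J1 := Finset.mem_union_left _ hi
    have hfu : ω (f i) (u i) = -1 := by rw [skew, hf]
    simp only [dI, if_pos h1, if_pos h2, if_pos hiI, if_pos hi]
    simp only [eM_mul, smul_mul_assoc, mul_smul_comm, map_sub, map_neg, LinearMap.sub_apply, LinearMap.neg_apply, hf,
      hfu, hω, smul_smul]
    constructor
    · norm_num
    · norm_num
  · rw [Finset.prod_ite, Finset.prod_const, Finset.prod_const_one, mul_one]
    have h1 : (Finset.univ.filter fun i => i ∈ I' \ J) = I' \ J := by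
      ext i
      simp only [Finset.mem_filter, Finset.mem_univ, true_and]
    rw [h1, hQc]
    exact Odd.neg_one_pow (by obtain ⟨m, hm⟩ := hodd; exact ⟨m - 1, by omega⟩)

/-- Reaching level `m'`. -/
theorem hasD_upto [NeZero k] {p : ℕ} [CharP F p] (hp : Odd p) (hω : ∀ w, ω w w = 0)
    (hn : ∀ w, (∀ x, ω w x = 0) → w = 0) (hroot : ∀ j v, In M (sl j (eM ω v v))) (m' n : ℕ) :
    ∀ (c : F) (m : ℕ), c ≠ 0 → Odd m → 3 ≤ m → m + 2 * n = m' →
      (∀ I : Finset (Fin t), I.card = m → HasD ω M c I) →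
      ∃ c' : F, c' ≠ 0 ∧ ∀ I : Finset (Fin t), I.card = m' → HasD ω M c' I := by
  have h2 : (2 : F) ≠ 0 := by
    intro h
    have h3 : ((2 : ℕ) : F) = 0 := by exact_mod_cast h
    rw [CharP.cast_eq_zero_iff F p] at h3
    obtain ⟨m, hm⟩ := hp
    have h4 := Nat.le_of_dvd (by norm_num) h3
    have h5 : p ≠ 1 := CharP.char_ne_one F p
    omega
  induction n with
  | zero =>
    intro c m hc hm h3 hmt h
    refine ⟨c, hc, fun I hI => h I (by omega)⟩
  | succ n ih =>
    intro c m hc hm h3 hmt h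
    refine ih (2 * c * c) (m + 2) (mul_ne_zero (mul_ne_zero h2 hc) hc) (hm.add_even even_two) (by omega) (by omega) ?_
    intro I hI
    exact hasD_stepA hp hω hn hroot hm h3 h hI

/-- From a typed pure element to level `t - 1`. -/
theorem levelA_of_typ [NeZero k] {p : ℕ} [CharP F p] (hp : Odd p) (hM : LevelAlt ω M) (hω : ∀ w, ω w w = 0)
    (hn : ∀ w, (∀ x, ω w x = 0) → w = 0)
    (hex : ∀ u v : Fin k → F, u ≠ 0 → v ≠ 0 → ∃ x, ω u x ≠ 0 ∧ ω v x ≠ 0)
    (hbiv : ∀ u v : Fin k → F, ω u v = 0 → u ≠ 0 → ∃ a : F, v = a • u)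
    (hroot : ∀ j v, In M (sl j (eM ω v v))) (ht : Even t)
    (β : ((Fin t → Fin k) → F) →ₗ[F] ((Fin t → Fin k) → F) →ₗ[F] F) {c0 : F} (hc0 : c0 ≠ 0)
    (hβ : ∀ xs ys : Fin t → (Fin k → F), β (tp xs) (tp ys) = c0 * ∏ i, ω (xs i) (ys i))
    (hiso : ∀ g ∈ M, ∀ x y, β ((g : Module.End F ((Fin t → Fin k) → F)) x) ((g : Module.End F ((Fin t → Fin k) → F)) y)
      = β x y)
    {A : Fin t → Matrix (Fin k) (Fin k) F} {c : F} (hc : c ≠ 0) (hA : In M (c • PM A)) (hT : ∀ i, Typ ω (A i))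
    (j : Fin t) (hj : A j ≠ 1 ∧ ∃ i, i ≠ j ∧ A i ≠ 1) :
    ∃ c' : F, c' ≠ 0 ∧ ∀ I : Finset (Fin t), I.card = t - 1 → HasD ω M c' I := by
  classical
  have skew := skew_of_alt hω
  let I : Finset (Fin t) := Finset.univ.filter fun i => A i ≠ 1
  have hI : ∀ i ∈ I, ∃ v, v ≠ 0 ∧ A i = eM ω v v := by
    intro i hi
    have hi1 : A i ≠ 1 := (Finset.mem_filter.1 hi).2
    rcases hT i with h | ⟨u, v, huv, h1, h2, -⟩ | h
    · exact h
    · obtain ⟨a, ha⟩ := hbiv u v huv h2
      exact absurd ha (h1 a)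
    · exact absurd h hi1
  have hK : ∀ i, i ∉ I → A i = 1 := by
    intro i hi
    by_contra h
    exact hi (Finset.mem_filter.2 ⟨Finset.mem_univ _, h⟩)
  have hsqI : ∀ i ∈ I, A i * A i = 0 := by
    intro i hi
    obtain ⟨v, -, hv⟩ := hI i hi
    rw [hv]; exact eM_sq ω (hω v)
  obtain ⟨hj1, i, hij, hi1⟩ := hj
  have hjI : j ∈ I := Finset.mem_filter.2 ⟨Finset.mem_univ _, hj1⟩
  have hiI : i ∈ I := Finset.mem_filter.2 ⟨Finset.mem_univ _, hi1⟩
  have hodd : Odd I.card := by
    refine odd_card hp hω hn β hc0 hβ hiso hc hA ⟨j, hsqI j hjI⟩ (I := I) ?_ ?_ ?_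
    · intro i
      by_cases h1 : i ∈ I
      · obtain ⟨v, hv0, hv⟩ := hI i h1
        rw [hv]; exact eM_ne_zero hn hv0
      · rw [hK i h1]; exact one_ne_zero
    · intro i hi x y
      obtain ⟨v, -, hv⟩ := hI i hi
      rw [hv, eM_mulVec, eM_mulVec, map_smul, map_smul, LinearMap.smul_apply, smul_eq_mul, smul_eq_mul, skew x v]
      ring
    · intro i hi x y
      rw [hK i hi, Matrix.one_mulVec, Matrix.one_mulVec]
  have h2 : 2 ≤ I.card := by
    have h3 : ({i, j} : Finset (Fin t)) ⊆ I := by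
      intro x hx
      rcases Finset.mem_insert.1 hx with rfl | hx
      · exact hiI
      · rw [Finset.mem_singleton.1 hx]; exact hjI
    have h4 := Finset.card_le_card h3
    rwa [Finset.card_pair hij] at h4
  have h3 : 3 ≤ I.card := by
    obtain ⟨m, hm⟩ := hodd
    omega
  have hex' : ∀ i, ∃ v, i ∈ I → v ≠ 0 ∧ A i = eM ω v v := by
    intro i
    by_cases hi : i ∈ I
    · obtain ⟨v, hv⟩ := hI i hi
      exact ⟨v, fun _ => hv⟩
    · exact ⟨0, fun h => absurd h hi⟩
  choose v hv using hex'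
  have hAd : A = dI ω I v := by
    funext i
    by_cases hi : i ∈ I
    · simp only [dI, if_pos hi]; exact (hv i hi).2
    · simp only [dI, if_neg hi]; exact hK i hi
  rw [hAd] at hA
  have h5 := hasD_ofA hM hω hex (fun i hi => (hv i hi).1) hA
  have h6 : I.card ≤ t := (Finset.card_le_univ _).trans (by rw [Fintype.card_fin])
  obtain ⟨m, hm⟩ := hodd
  obtain ⟨m', hm'⟩ := ht
  exact hasD_upto hp hω hn hroot (t - 1) (m' - m - 1) c I.card hc ⟨m, hm⟩ h3 (by omega) fun I' hI' =>
    hasD_permA hM hI'.symm h2 h5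

end Slots

section Bridge

open Cfsg.Agent.H889.C7

variable {ω : LinearMap.BilinForm F (Fin k → F)}

theorem sE_toLin' {n : ℕ} (j : Fin n) (B : Matrix (Fin k) (Fin k) F) :
    C7.sE j (Matrix.toLin' B) = sl j B := by
  rw [C7.sE, LinearMap.toMatrix'_toLin', sl_eq]

theorem toLin'_eM (ω : LinearMap.BilinForm F (Fin k → F)) (a b : Fin k → F) :
    Matrix.toLin' (eM ω a b) = C7.rk ω a b := by
  refine LinearMap.ext fun x => ?_
  rw [Matrix.toLin'_apply, eM_mulVec, C7.rk_apply]

theorem sE_rk {n : ℕ} (j : Fin n) (a b : Fin k → F) : C7.sE j (C7.rk ω a b) = sl j (eM ω a b) := by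
  rw [← toLin'_eM, sE_toLin']

theorem pm'_toLin' {n : ℕ} (A : Fin n → Matrix (Fin k) (Fin k) F) :
    C7.pm' (fun i => Matrix.toLin' (A i)) = PM A := by
  refine C7.tp_ext fun xs => ?_
  rw [C7.pm'_tp, PM_tp]
  simp only [Matrix.toLin'_apply]

/-- Slot groups and even permutations give `LevelAlt`. -/
theorem levelAlt_of {n : ℕ} {M : Subgroup (Module.End F (T F k (n + 1)))ˣ} (hM : C7.SlotsM ω M) :
    LevelAlt ω M := by
  classical
  constructor
  · intro g g' h1 h2 h3
    let α : Fin (n + 1) → (Module.End F (Fin k → F))ˣ := fun i =>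
      ⟨Matrix.toLin' (g i), Matrix.toLin' (g' i),
        by rw [Module.End.mul_eq_comp, ← Matrix.toLin'_mul, h1, Matrix.toLin'_one]; rfl,
        by rw [Module.End.mul_eq_comp, ← Matrix.toLin'_mul, h2, Matrix.toLin'_one]; rfl⟩
    have hα : ∀ i, C7.IsoW ω (α i) := by
      intro i u v
      show ω (Matrix.toLin' (g i) u) (Matrix.toLin' (g i) v) = _
      rw [Matrix.toLin'_apply, Matrix.toLin'_apply, h3]
    have key : ∀ s : Finset (Fin (n + 1)), ∃ u ∈ M, (u : Module.End F (T F k (n + 1))) = PM (onS s g) := by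
      intro s
      induction s using Finset.induction_on with
      | empty =>
        refine ⟨1, M.one_mem, ?_⟩
        have : onS (∅ : Finset (Fin (n + 1))) g = fun _ => 1 := by funext i; simp [onS]
        rw [this, PM_one, Units.val_one]
      | insert j s hj ih =>
        obtain ⟨u, hu, hu1⟩ := ih
        refine ⟨u * C7.sU j (α j), M.mul_mem hu (hM.sp j (α j) (hα j)), ?_⟩
        have h4 := onS_insert hj g (g j)
        rw [Function.update_eq_self] at h4
        rw [h4, Units.val_mul, hu1]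
        congr 1
        exact sE_toLin' j (g j)
    obtain ⟨u, hu, hu1⟩ := key Finset.univ
    have hon : onS Finset.univ g = g := by funext i; simp [onS]
    rw [hon] at hu1
    refine ⟨u, hu, hu1, ?_⟩
    have h5 : (u : Module.End F (T F k (n + 1))) * PM g' = 1 := by
      rw [hu1, PM_mul, ← PM_one]
      congr 1
      funext i
      exact h1 i
    exact Units.inv_eq_of_mul_eq_one_right h5
  · intro σ hσ
    refine ⟨C7.pU σ.symm, hM.al _ (by rw [Equiv.Perm.sign_symm, hσ]), fun A => ?_⟩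
    refine C7.tp_ext fun xs => ?_
    rw [Module.End.mul_apply, Module.End.mul_apply, PM_tp]
    show C7.pE σ.symm (tp _) = PM _ (C7.pE σ.symm (tp xs))
    rw [C7.pE_tp, C7.pE_tp, PM_tp]
    rfl

theorem hex_of (hω : C7.Symp ω) : ∀ u v : Fin k → F, u ≠ 0 → v ≠ 0 → ∃ x, ω u x ≠ 0 ∧ ω v x ≠ 0 := by
  intro u v hu hv
  obtain ⟨x1, hx1⟩ := hω.exists_pair hu
  obtain ⟨x2, hx2⟩ := hω.exists_pair hv
  by_cases h1 : ω v x1 = 0
  · by_cases h3 : ω u x2 = 0
    · refine ⟨x1 + x2, ?_, ?_⟩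
      · rw [map_add, hx1, h3, add_zero]; exact one_ne_zero
      · rw [map_add, hx2, h1, zero_add]; exact one_ne_zero
    · exact ⟨x2, h3, by rw [hx2]; exact one_ne_zero⟩
  · exact ⟨x1, by rw [hx1]; exact one_ne_zero, h1⟩

theorem hroot_of (hω : C7.Symp ω) {n : ℕ} {M : Subgroup (Module.End F (T F k (n + 1)))ˣ} (hM : C7.SlotsM ω M)
    (j : Fin (n + 1)) (v : Fin k → F) : In M (sl j (eM ω v v)) := by
  refine ⟨C7.sU j (C7.tv hω 1 v), hM.sp j _ (C7.isoW_tv hω 1 v), ?_⟩
  rw [C7.sU_val, C7.tv, C7.oneAdd_val, C7.sE_add, C7.sE_one, one_smul, sE_rk]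

/-- **The end argument, `k = 2`, `q` odd.** -/
theorem odd_end {F : Type*} [Field F] [Fintype F] {k n : ℕ} {ω : LinearMap.BilinForm F (Fin k → F)}
    (hω : C7.Symp ω) (hk : k = 2) (h2 : (2 : F) ≠ 0) (hn : Even n) {M : Subgroup (Module.End F (T F k (n + 2)))ˣ}
    (hM : C7.SlotsM ω M)
    (hiso : ∀ g ∈ M, ∀ v w, C7.fT ω (n + 2) (g.1 v) (g.1 w) = C7.fT ω (n + 2) v w) :
    (∀ i : Fin (n + 2), ∀ a, a ≠ 0 → ∀ s : Module.End F (T F k (n + 1)), ∀ g ∈ M,
      g.1 = 1 + (C7.DT hω i).cs a s → ∃ τ : F, s = τ • 1) ∨ C7.HasLong ω M := by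
  classical
  by_cases hall : ∀ i : Fin (n + 2), ∀ a, a ≠ 0 → ∀ s : Module.End F (T F k (n + 1)), ∀ g ∈ M,
      g.1 = 1 + (C7.DT hω i).cs a s → ∃ τ : F, s = τ • 1
  · exact Or.inl hall
  right
  push Not at hall
  obtain ⟨i, a, ha, s, g, hg, hgs, hns⟩ := hall
  obtain ⟨p, hpF⟩ := CharP.exists F
  have hpp : p.Prime := CharP.char_is_prime F p
  have hp : Odd p := by
    rcases hpp.eq_two_or_odd' with h | h
    · exfalso
      apply h2
      have := CharP.cast_eq_zero F p
      rw [h] at this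
      exact_mod_cast this
    · exact h
  have hk0 : NeZero k := ⟨by omega⟩
  have hLev := levelAlt_of hM
  have hroot := hroot_of hω hM
  have hplu := fun x y w => C7.plucker hω hk x y w
  have hbiv : ∀ u v : Fin k → F, ω u v = 0 → u ≠ 0 → ∃ a : F, v = a • u := by
    intro u v huv hu
    obtain ⟨w, hw⟩ := hω.exists_pair hu
    refine ⟨ω v w, ?_⟩
    have h := hplu u v w
    rw [hw, huv, zero_smul, one_smul, sub_eq_zero] at h
    exact h
  have hpm : ∀ X : Matrix (Fin k) (Fin k) F, PM (onS {i} fun _ => X) = sl i X := by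
    intro X
    rw [sl]
    congr 1
    funext j
    by_cases hi : j = i
    · subst hi; simp [onS]
    · simp [onS, hi]
  obtain ⟨y, hy⟩ : ∃ y, y = (C7.DT hω i).map hω 1 s := ⟨_, rfl⟩
  have hyB : ∀ B, y * sl i B = sl i B * y := by
    intro B
    rw [← sE_toLin', ← C7.map_sE hω, hy, C7.TD.map_mul, C7.TD.map_mul, one_mul, one_mul, mul_one, mul_one]
  have hyn : ¬ ∃ c : F, y = c • 1 := by
    rintro ⟨c, hc⟩
    refine hns c (LinearMap.ext fun b => ?_)
    have h1 := LinearMap.congr_fun hc ((C7.DT hω i).ι a b)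
    rw [hy, C7.TD.map_ι, Module.End.one_apply, LinearMap.smul_apply, Module.End.one_apply, ← map_smul,
      ← sub_eq_zero, ← map_sub] at h1
    exact sub_eq_zero.1 ((C7.DT hω i).ι_inj hω ha h1)
  have hIn : In M (PM (onS {i} fun _ => eM ω a a) * y) := by
    refine ⟨g, hg, ?_⟩
    rw [hpm, ← sE_rk, ← C7.map_sE hω, hy, C7.TD.map_mul, mul_one, one_mul, hgs, C7.TD.cs_eq_el,
      C7.TD.el_eq_map _ hω]
  obtain ⟨A, c, hc, hA1, hA2, hA3, j, hj, hj1⟩ := purify' M hp (hex_of hω) hω.alt hω.nd hroot _ {i} rfl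
    (fun _ => eM ω a a) i (Finset.mem_singleton_self i) (eM_sq ω (hω.alt a)) (fun _ _ => Or.inl ⟨a, ha, rfl⟩) y hyn
    (by
      intro j hj B
      rw [Finset.mem_singleton.1 hj]
      exact hyB B) hIn
  obtain ⟨c', hc', h⟩ := levelA_of_typ hp hLev hω.alt hω.nd (hex_of hω) hbiv hroot (hn.add even_two)
    (C7.fT ω (n + 2)) one_ne_zero (fun xs ys => by rw [C7.fT_tp, one_mul]) hiso hc hA3 hA2 i
    ⟨by rw [hA1 i (Finset.mem_singleton_self i)]; exact sq_ne_one (eM_sq ω (hω.alt a)), j,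
      fun h => hj (by rw [h]; exact Finset.mem_singleton_self i), hj1⟩
  -- the long root element
  obtain ⟨f, hf⟩ := hω.exists_pair ha
  have hfa : ω f a = -1 := by rw [hω.skew, hf]
  have hua : ω ((-c') • f) a = c' := by
    rw [map_smul, LinearMap.smul_apply, hfa, smul_eq_mul, neg_mul_neg, mul_one]
  refine ⟨fun _ => a, 0, (-c') • f, fun _ => ha, ?_, ?_⟩
  · intro d hd
    rw [hd, map_smul, LinearMap.smul_apply, hω.alt, smul_zero] at hua
    exact hc' hua.symm
  · obtain ⟨g', hg', e⟩ := h (Finset.univ.erase 0)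
      (by rw [Finset.card_erase_of_mem (Finset.mem_univ _), Finset.card_univ, Fintype.card_fin]) (fun _ => a)
      (fun _ => ha)
    refine ⟨g', hg', ?_⟩
    rw [e]
    congr 1
    rw [← C7.pm'_rk, ← C7.pm'_rk, ← pm'_toLin']
    have hX : ∀ Z : Module.End F (Fin k → F),
        Function.update (fun _ : Fin (n + 2) => C7.rk ω a a) 0 Z = fun m => if m = 0 then Z else C7.rk ω a a := by
      intro Z
      funext m
      by_cases hm : m = 0
      · subst hm; rw [Function.update_self, if_pos rfl]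
      · rw [Function.update_of_ne hm, if_neg hm]
    have e1 : (fun m : Fin (n + 2) => C7.rk ω ((fun _ => a) m) (Function.update (fun _ => a) 0 ((-c') • f) m)) =
        Function.update (fun _ => C7.rk ω a a) 0 (C7.rk ω a ((-c') • f)) := by
      rw [hX]
      funext m
      by_cases hm : m = 0
      · subst hm; rw [Function.update_self, if_pos rfl]
      · rw [Function.update_of_ne hm, if_neg hm]
    have e2 : (fun m : Fin (n + 2) => C7.rk ω (Function.update (fun _ => a) 0 ((-c') • f) m) ((fun _ => a) m)) =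
        Function.update (fun _ => C7.rk ω a a) 0 (C7.rk ω ((-c') • f) a) := by
      rw [hX]
      funext m
      by_cases hm : m = 0
      · subst hm; rw [Function.update_self, if_pos rfl]
      · rw [Function.update_of_ne hm, if_neg hm]
    have e3 : (fun m : Fin (n + 2) => Matrix.toLin' (dI ω (Finset.univ.erase 0) (fun _ => a) m)) =
        Function.update (fun _ => C7.rk ω a a) 0 1 := by
      rw [hX]
      funext m
      by_cases hm : m = 0
      · subst hm
        rw [if_pos rfl]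
        simp only [dI, Finset.notMem_erase, if_false, Matrix.toLin'_one]
        rfl
      · rw [if_neg hm]
        simp only [dI, Finset.mem_erase, ne_eq, hm, not_false_iff, Finset.mem_univ, and_self, if_true, toLin'_eM]
    have e4 : C7.rk ω a ((-c') • f) = C7.rk ω ((-c') • f) a + c' • 1 := by
      refine LinearMap.ext fun w => ?_
      rw [LinearMap.add_apply, C7.rk_apply, C7.rk_apply, LinearMap.smul_apply, Module.End.one_apply]
      have h := hplu ((-c') • f) a w
      rw [hua, sub_eq_iff_eq_add] at h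
      rw [h, add_comm]
    rw [e1, e2, e3, e4, C7.pm'_add, C7.pm'_smul, add_sub_cancel_left]

end Bridge

end Cfsg.Agent.H874
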