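import Cfsg.Agent.H874.SlotK

/-!
# The slot lemma for `dim W = 2`, `q ≥ 5` odd: the main argument
-/

set_option autoImplicit false
set_option linter.unusedSimpArgs false
set_option linter.unusedVariables false
set_option linter.unusedSectionVars false

namespace Cfsg.Agent.H874

open Subgroup

namespace Slot

variable {F W W' V : Type*} [Field F] [AddCommGroup W] [Module F W] [AddCommGroup W'] [Module F W']
    [AddCommGroup V] [Module F V] {S : Slot F W W' V}

theorem IsCo.smul (l : F) {X : Module.End F V} (hX : S.IsCo X) : S.IsCo (l • X) := by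
  obtain ⟨Z, hZ⟩ := hX
  exact ⟨l • Z, fun w y => by rw [LinearMap.smul_apply, hZ, LinearMap.smul_apply, map_smul]⟩

theorem IsCo.sub {X Y : Module.End F V} (hX : S.IsCo X) (hY : S.IsCo Y) : S.IsCo (X - Y) := by
  have h := hX.add (hY.smul (-1))
  rwa [neg_smul, one_smul, ← sub_eq_add_neg] at h

theorem IsCo.one : S.IsCo 1 := ⟨1, fun w y => rfl⟩

theorem IsCo.sum {ι : Type*} (s : Finset ι) (f : ι → Module.End F V) (hf : ∀ i ∈ s, S.IsCo (f i)) :
    S.IsCo (∑ i ∈ s, f i) := by
  classical
  induction s using Finset.induction_on with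
  | empty => rw [Finset.sum_empty]; exact IsCo.zero
  | insert a s ha ih =>
    rw [Finset.sum_insert ha]
    exact (hf a (Finset.mem_insert_self _ _)).add (ih fun i hi => hf i (Finset.mem_insert_of_mem hi))

theorem tv_mul_inv_cancel_left (g : (Module.End F V)ˣ) (X : Module.End F V) :
    (g : Module.End F V) * (((g⁻¹ : (Module.End F V)ˣ) : Module.End F V) * X) = X := by
  rw [← mul_assoc, Units.mul_inv, one_mul]

theorem inv_mul_cancel_left' (g : (Module.End F V)ˣ) (X : Module.End F V) :
    ((g⁻¹ : (Module.End F V)ˣ) : Module.End F V) * ((g : Module.End F V) * X) = X := by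
  rw [← mul_assoc, Units.inv_mul, one_mul]

/-- **The slot lemma**, `dim W = 2`, `q ≥ 5` odd. -/
theorem Good.slot_lemma_two [Fintype F] [FiniteDimensional F W] [FiniteDimensional F W'] [Nontrivial W']
    [FiniteDimensional F V] {M : Subgroup (Module.End F V)ˣ} [Finite M] (hM : S.Good M) (h2 : (2 : F) ≠ 0)
    (hq : 3 < Fintype.card F) (hn : (Module.finrank F W' : F) ≠ 0) {w u : W} (hwu : S.ω w u = 1)
    (hW : ∀ w u, S.ω w u = 1 → ∀ x, x = S.ω w x • u - S.ω u x • w)
    (h3 : ∀ X : Module.End F V, (∀ e ∈ S.DM M, S.IsCo (e : Module.End F V) → X * e = e * X) → S.IsOp X)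
    {e : (Module.End F V)ˣ} (he : e ∈ S.DM M) :
    (∀ w l, S.tv w l * e = e * S.tv w l) ∨ ∃ b l, b ≠ 0 ∧ e = S.tv b l := by
  classical
  have hwW := hW w u hwu
  have hw0 := wu_ne hwu
  -- an element `a` with `a * a ≠ 1`
  obtain ⟨a, ha, ha2⟩ : ∃ a : F, a ≠ 0 ∧ a * a ≠ 1 := by
    by_contra hcon
    push Not at hcon
    have h4 : (Finset.univ : Finset F) ⊆ {0, 1, -1} := by
      intro x _
      by_cases hx : x = 0
      · rw [hx]; simp
      · have h5 : (x - 1) * (x + 1) = 0 := by
          have := hcon x hx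
          linear_combination this
        rcases mul_eq_zero.1 h5 with h6 | h6
        · rw [sub_eq_zero.1 h6]; simp
        · rw [eq_neg_of_add_eq_zero_left h6]; simp
    have h5 := Finset.card_le_card h4
    have h6 : ({0, 1, -1} : Finset F).card ≤ 3 := Finset.card_le_three
    rw [Finset.card_univ] at h5
    omega
  -- properties of the conjugates of the `Δ b`
  have hsqD : ∀ e ∈ S.DM M, ∀ x, (e : Module.End F V) ((e : Module.End F V) x - x) = (e : Module.End F V) x - x := by
    intro e he x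
    obtain ⟨A, B, hAB, hBA, -, -⟩ := exists_factor he
    have h5 : (e : Module.End F V) x - x = A (B x) := by rw [hAB]; abel
    rw [h5, hAB, hBA, map_zero, add_zero]
  have hC : ∀ {w : W}, w ≠ 0 → ∀ e ∈ S.DM M, (e : Module.End F V) * S.Δ w = S.Δ w * e →
      (∃ l, e = S.tv w l) ∨ S.IsCo (e : Module.End F V) := fun {w} hw e he hc =>
    hM.comm_Δ hW h2 ha ha2 hw (DM_subset hM.tv_mem he) (hsqD e he) hc
  have hΔ0 : ∀ {w : W}, w ≠ 0 → S.Δ w ≠ 0 := by
    intro w hw h
    obtain ⟨u, hu⟩ := S.exists_pair hw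
    obtain ⟨y, hy⟩ := exists_ne (0 : W')
    have h5 := LinearMap.congr_fun h (S.i u y)
    rw [S.Δ_apply, S.ci, hu, one_smul, LinearMap.zero_apply] at h5
    exact hy (S.i_injective hw (by rw [h5, map_zero]))
  have hΔne : ∀ {w : W}, w ≠ 0 → ¬ S.IsCo (S.Δ w) := by
    intro w hw h
    obtain ⟨u, hu⟩ := S.exists_pair hw
    have h5 := (IsOp.E (S := S) u w).comm h
    obtain ⟨y, hy⟩ := exists_ne (0 : W')
    have h6 := LinearMap.congr_fun h5 (S.i u y)
    simp only [Module.End.mul_apply, S.Δ_apply, E_apply, S.ci, hu, S.alt, one_smul, zero_smul, map_zero] at h6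
    exact hy (S.i_injective hw (by rw [← h6, map_zero]))
  obtain ⟨π, hπ⟩ := exists_isPr hwu hwW hn
  have hπop : ∀ X, S.IsOp X → π X = X := fun X hX => hπ.apply_op hwu hwW hn hX
  have hactop : ∀ g : (Module.End F V)ˣ, S.IsOp (g : Module.End F V) →
      S.IsOp ((g⁻¹ : (Module.End F V)ˣ) : Module.End F V) → act g π = π := by
    intro g hg hg'
    exact hπ.act_eq hwu hwW hn (fun X hX => (hg.mul hX).mul hg') (fun X hX => (hg'.mul hX).mul hg)
  -- `h` normalising the root group stabilises `π`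
  have key2 : ∀ h ∈ M, ∀ (w : W) (μ : F), w ≠ 0 → μ ≠ 0 →
      (h : Module.End F V) * S.Δ w * ((h⁻¹ : (Module.End F V)ˣ) : Module.End F V) = μ • S.Δ w → act h π = π := by
    have half : ∀ h ∈ M, ∀ (w : W) (μ : F), w ≠ 0 → μ ≠ 0 →
      (h : Module.End F V) * S.Δ w * ((h⁻¹ : (Module.End F V)ˣ) : Module.End F V) = μ • S.Δ w →
      ∀ X, S.IsOp X → S.IsOp ((h : Module.End F V) * X * ((h⁻¹ : (Module.End F V)ˣ) : Module.End F V)) := by
      intro h hh w μ hw hμ hhw X hX
      refine h3 _ fun e he heco => ?_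
      -- `h⁻¹ e h` commutes with `Δ w`
      have he' : h⁻¹ * e * h ∈ S.DM M := by
        have := conj_mem_DM (M.inv_mem hh) he
        rwa [inv_inv] at this
      have h5 : ((h⁻¹ * e * h : (Module.End F V)ˣ) : Module.End F V) * S.Δ w
          = S.Δ w * ((h⁻¹ * e * h : (Module.End F V)ˣ) : Module.End F V) := by
        have h6 : S.Δ w = ((h⁻¹ : (Module.End F V)ˣ) : Module.End F V) * (μ • S.Δ w) * h := by
          rw [← hhw]
          simp only [mul_assoc, inv_mul_cancel_left', Units.inv_mul, mul_one]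
        have h7 : (e : Module.End F V) * S.Δ w = S.Δ w * e := ((IsOp.Δ w).comm heco).symm
        rw [h6, Units.val_mul, Units.val_mul]
        simp only [mul_assoc, tv_mul_inv_cancel_left, smul_mul_assoc, mul_smul_comm]
        rw [← mul_assoc (e : Module.End F V), h7]
        simp only [mul_assoc]
      rcases hC hw _ he' h5 with ⟨l, hl⟩ | hco
      · exfalso
        have h6 : e = h * S.tv w l * h⁻¹ := by rw [← hl]; group
        have h7 : (e : Module.End F V) = 1 + (l * μ) • S.Δ w := by
          rw [h6, Units.val_mul, Units.val_mul, S.coe_tv, mul_add, add_mul, mul_one, Units.mul_inv, mul_smul_comm,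
            smul_mul_assoc, hhw, smul_smul]
        have h8 : l * μ ≠ 0 := by
          intro h0
          rw [h0, zero_smul, add_zero] at h7
          have h9 : e = 1 := Units.ext h7
          obtain ⟨g, hg, w', hw', l', hl', heq⟩ := he
          rw [h9] at heq
          have h10 : S.tv w' l' = 1 := by
            have : S.tv w' l' = g⁻¹ * (g * S.tv w' l' * g⁻¹) * g := by group
            rw [this, ← heq]; group
          have h11 := congrArg Units.val h10
          rw [S.coe_tv, Units.val_one, add_eq_left] at h11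
          exact (smul_eq_zero.1 h11).elim hl' (hΔ0 hw')
        apply hΔne hw
        have h9 : S.Δ w = (l * μ)⁻¹ • ((e : Module.End F V) - 1) := by
          rw [h7, add_sub_cancel_left, smul_smul, inv_mul_cancel₀ h8, one_smul]
        rw [h9]
        exact (heco.sub IsCo.one).smul _
      · have h6 := hX.comm hco
        rw [Units.val_mul, Units.val_mul] at h6
        -- X (h⁻¹ e h) = (h⁻¹ e h) X
        have h7 := congrArg (fun T => (h : Module.End F V) * T * ((h⁻¹ : (Module.End F V)ˣ) : Module.End F V)) h6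
        simp only [mul_assoc, tv_mul_inv_cancel_left, Units.mul_inv, mul_one] at h7
        rw [mul_assoc, mul_assoc]
        exact h7
    intro h hh w μ hw hμ hhw
    refine hπ.act_eq hwu hwW hn (half h hh w μ hw hμ hhw) ?_
    have h5 := half h⁻¹ (M.inv_mem hh) w μ⁻¹ hw (inv_ne_zero hμ) (by
      rw [inv_inv]
      have h6 : S.Δ w = μ⁻¹ • ((h : Module.End F V) * S.Δ w * ((h⁻¹ : (Module.End F V)ˣ) : Module.End F V)) := by
        rw [hhw, smul_smul, inv_mul_cancel₀ hμ, one_smul]
      nth_rewrite 1 [h6]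
      simp only [mul_assoc, inv_mul_cancel_left', Units.inv_mul, mul_one, smul_mul_assoc, mul_smul_comm])
    rwa [inv_inv] at h5
  have key3 : ∀ g ∈ M, ∀ (b w : W) (μ : F), b ≠ 0 → w ≠ 0 → μ ≠ 0 →
      (g : Module.End F V) * S.Δ b * ((g⁻¹ : (Module.End F V)ˣ) : Module.End F V) = μ • S.Δ w → act g π = π := by
    intro g hg b w μ hb hw hμ hgb
    obtain ⟨s, hs, hs1, hs2, hs3⟩ := exists_trans hM.tv_mem hW hw hb
    have h5 : act (g * s) π = π := by
      refine key2 _ (M.mul_mem hg hs) w μ hw hμ ?_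
      rw [← hgb, ← hs3, mul_inv_rev, Units.val_mul, Units.val_mul]
      simp only [mul_assoc]
    rwa [act_mul, hactop s hs1 hs2] at h5
  -- the orbit
  have hFin : Fintype M := Fintype.ofFinite M
  let Ω : Finset (Module.End F V →ₗ[F] Module.End F V) := Finset.univ.image fun g : M => act (g : (Module.End F V)ˣ) π
  have hΩ : ∀ φ, φ ∈ Ω ↔ ∃ g ∈ M, act g π = φ := by
    intro φ
    simp only [Ω, Finset.mem_image, Finset.mem_univ, true_and, Subtype.exists, exists_prop]
  have hπΩ : π ∈ Ω := (hΩ _).2 ⟨1, M.one_mem, act_one π⟩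
  have hΩact : ∀ g ∈ M, ∀ φ ∈ Ω, act g φ ∈ Ω := by
    intro g hg φ hφ
    obtain ⟨h, hh, rfl⟩ := (hΩ _).1 hφ
    exact (hΩ _).2 ⟨g * h, M.mul_mem hg hh, act_mul g h π⟩
  let Co : (Module.End F V →ₗ[F] Module.End F V) → Prop := fun φ => ∀ x, S.IsCo (φ x)
  -- freeness
  have hfree : ∀ φ ∈ Ω, φ ≠ π → ¬ Co φ → ∀ (w : W), w ≠ 0 → ∀ l : F, act (S.tv w l) φ = φ → l = 0 := by
    intro φ hφ hφπ hφC w hw l hact
    by_contra hl
    obtain ⟨g, hg, rfl⟩ := (hΩ _).1 hφ
    let e' : (Module.End F V)ˣ := g⁻¹ * S.tv w l * g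
    have he'1 : act e' π = π := by
      show act (g⁻¹ * S.tv w l * g) π = π
      rw [act_mul, act_mul, hact, ← act_mul, inv_mul_cancel, act_one]
    have he'2 : act e'⁻¹ π = π := by
      nth_rewrite 1 [← he'1]
      rw [← act_mul, inv_mul_cancel, act_one]
    obtain ⟨ε, hε⟩ : ∃ ε, ε = l • (((g⁻¹ : (Module.End F V)ˣ) : Module.End F V) * S.Δ w * g) := ⟨_, rfl⟩
    have hεε : ε * ε = 0 := by
      rw [hε, smul_mul_smul_comm]
      have h5 : ((g⁻¹ : (Module.End F V)ˣ) : Module.End F V) * S.Δ w * g *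
          (((g⁻¹ : (Module.End F V)ˣ) : Module.End F V) * S.Δ w * g) = 0 := by
        simp only [mul_assoc, tv_mul_inv_cancel_left]
        rw [← mul_assoc (S.Δ w), S.Δ_mul_Δ_of_perp (S.alt w), zero_mul, mul_zero]
      rw [h5, smul_zero]
    have he'v : (e' : Module.End F V) = 1 + ε := by
      show ((g⁻¹ * S.tv w l * g : (Module.End F V)ˣ) : Module.End F V) = _
      rw [hε, Units.val_mul, Units.val_mul, S.coe_tv, mul_add, add_mul, mul_one, Units.inv_mul, mul_smul_comm,
        smul_mul_assoc]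
    have he'i : ((e'⁻¹ : (Module.End F V)ˣ) : Module.End F V) = 1 - ε := by
      have h5 : e'⁻¹ = g⁻¹ * (S.tv w l)⁻¹ * g := by
        show (g⁻¹ * S.tv w l * g)⁻¹ = _
        group
      rw [h5, hε, Units.val_mul, Units.val_mul, S.coe_tv_inv, mul_sub, sub_mul, mul_one, Units.inv_mul, mul_smul_comm,
        smul_mul_assoc]
    have hnorm : ∀ X, S.IsOp X → S.IsOp ((1 + ε) * X * (1 - ε)) := by
      intro X hX
      rw [← he'v, ← he'i, ← hπop X hX, ← act_conj, he'1]
      exact hπ.op _
    have hnorm' : ∀ X, S.IsOp X → S.IsOp ((1 - ε) * X * (1 + ε)) := by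
      intro X hX
      have h5 := act_conj e'⁻¹ π X
      rw [inv_inv, he'2, hπop X hX] at h5
      rw [← he'v, ← he'i, ← h5]
      exact hπ.op _
    rcases norm_sq_zero hwu hwW h2 hεε hnorm hnorm' with hop | hco
    · obtain ⟨b, μ, hb, hμ⟩ := op_sq_zero hwu hwW hop hεε
      have h5 : S.Δ w = (l⁻¹ * μ) • ((g : Module.End F V) * S.Δ b * ((g⁻¹ : (Module.End F V)ˣ) : Module.End F V)) := by
        have h6 : (g : Module.End F V) * ε * ((g⁻¹ : (Module.End F V)ˣ) : Module.End F V) = l • S.Δ w := by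
          rw [hε]
          simp only [mul_assoc, tv_mul_inv_cancel_left, smul_mul_assoc, mul_smul_comm, Units.mul_inv, mul_one]
        have h7 : S.Δ w = l⁻¹ • ((g : Module.End F V) * ε * ((g⁻¹ : (Module.End F V)ˣ) : Module.End F V)) := by
          rw [h6, smul_smul, inv_mul_cancel₀ hl, one_smul]
        rw [h7, hμ, mul_smul_comm, smul_mul_assoc, smul_smul]
      have hμ0 : l⁻¹ * μ ≠ 0 := by
        intro h0
        rw [h0, zero_smul] at h5
        exact hΔ0 hw h5
      apply hφπ
      refine key3 g hg b w (l⁻¹ * μ)⁻¹ hb hw (inv_ne_zero hμ0) ?_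
      rw [h5, smul_smul, inv_mul_cancel₀ hμ0, one_smul]
    · -- `tv w l` commutes with `g A g⁻¹`
      have hcomm : ∀ b, (g : Module.End F V) * S.Δ b * ((g⁻¹ : (Module.End F V)ˣ) : Module.End F V) * S.Δ w
          = S.Δ w * ((g : Module.End F V) * S.Δ b * ((g⁻¹ : (Module.End F V)ˣ) : Module.End F V)) := by
        intro b
        have h5 := (IsOp.Δ (S := S) b).comm hco
        rw [hε, mul_smul_comm, smul_mul_assoc] at h5
        have h6 := smul_right_injective _ hl h5
        have h7 := congrArg (fun T => (g : Module.End F V) * T * ((g⁻¹ : (Module.End F V)ˣ) : Module.End F V)) h6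
        simp only [mul_assoc, tv_mul_inv_cancel_left, Units.mul_inv, mul_one] at h7 ⊢
        exact h7
      apply hφC
      have hbco : ∀ b : W, b ≠ 0 →
          S.IsCo ((g : Module.End F V) * S.Δ b * ((g⁻¹ : (Module.End F V)ˣ) : Module.End F V)) := by
        intro b hb
        have heb : g * S.tv b 1 * g⁻¹ ∈ S.DM M := ⟨g, hg, b, hb, 1, one_ne_zero, rfl⟩
        have hebv : ((g * S.tv b 1 * g⁻¹ : (Module.End F V)ˣ) : Module.End F V)
            = 1 + (g : Module.End F V) * S.Δ b * ((g⁻¹ : (Module.End F V)ˣ) : Module.End F V) := by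
          rw [Units.val_mul, Units.val_mul, S.coe_tv, one_smul, mul_add, add_mul, mul_one, Units.mul_inv]
        rcases hC hw _ heb (by rw [hebv, add_mul, mul_add, one_mul, mul_one, hcomm]) with ⟨m, hm⟩ | hco'
        · exfalso
          have h5 : (g : Module.End F V) * S.Δ b * ((g⁻¹ : (Module.End F V)ˣ) : Module.End F V) = m • S.Δ w := by
            have h6 := congrArg Units.val hm
            rw [hebv, S.coe_tv, add_right_inj] at h6
            exact h6
          have hm0 : m ≠ 0 := by
            rintro rfl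
            rw [zero_smul] at h5
            have h6 : S.Δ b = ((g⁻¹ : (Module.End F V)ˣ) : Module.End F V) *
                ((g : Module.End F V) * S.Δ b * ((g⁻¹ : (Module.End F V)ˣ) : Module.End F V)) * g := by
              simp only [mul_assoc, inv_mul_cancel_left', Units.inv_mul, mul_one]
            rw [h5, mul_zero, zero_mul] at h6
            exact hΔ0 hb h6
          exact hφπ (key3 g hg b w m hb hw hm0 h5)
        · rw [hebv] at hco'
          have h5 := hco'.sub (IsCo.one (S := S))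
          rwa [add_sub_cancel_left] at h5
      intro x
      rw [act_apply]
      refine span_op hW (fun Y => S.IsCo ((g : Module.End F V) * Y * ((g⁻¹ : (Module.End F V)ˣ) : Module.End F V))) h2 hwu
        ?_ hbco ?_ ?_ (hπ.op _)
      · show S.IsCo _
        rw [mul_one, Units.mul_inv]
        exact IsCo.one
      · intro X Y hX hY
        show S.IsCo _
        rw [mul_add, add_mul]
        exact hX.add hY
      · intro l X hX
        show S.IsCo _
        rw [mul_smul_comm, smul_mul_assoc]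
        exact hX.smul l
  -- the sum over the rest vanishes
  let N : Finset (Module.End F V →ₗ[F] Module.End F V) := Ω.filter fun φ => φ ≠ π ∧ ¬ Co φ
  have hπCo : ¬ Co π := by
    intro h
    have h5 := h (S.Δ w)
    rw [hπop _ (IsOp.Δ w)] at h5
    exact hΔne hw0 h5
  have hcoconj : ∀ (w : W) (l : F) (φ : Module.End F V →ₗ[F] Module.End F V), Co (act (S.tv w l) φ) → Co φ := by
    intro w l φ h x
    have h5 := h (((S.tv w l : (Module.End F V)ˣ) : Module.End F V) * x * (((S.tv w l)⁻¹ : (Module.End F V)ˣ) : Module.End F V))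
    rw [act_conj] at h5
    have h6 := (IsOp.tv_inv (S := S) w l).comm h5
    have h7 : ((S.tv w l : (Module.End F V)ˣ) : Module.End F V) * φ x *
        (((S.tv w l)⁻¹ : (Module.End F V)ˣ) : Module.End F V) = φ x := by
      simp only [mul_assoc, inv_mul_cancel_left'] at h6
      have h8 := congrArg (fun T => T * ((S.tv w l : (Module.End F V)ˣ) : Module.End F V)) h6
      simp only [mul_assoc, Units.inv_mul, mul_one] at h8
      rw [mul_assoc]
      exact h8.symm
    rwa [h7] at h5
  have hzero : ∀ (w : W), w ≠ 0 → ∀ x, x * S.Δ w = S.Δ w * x → ∑ φ ∈ N, φ x = 0 := by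
    intro w hw x hx
    refine sum_eq_zero_of_free (C := F) (fun l φ => act (S.tv w l) φ) ?_ ?_ (fun φ => φ x) ?_ N ?_ ?_
    · intro φ
      have h5 : S.tv w (0 : F) = 1 := by
        refine ext_unit fun x => ?_
        rw [S.tv_apply, zero_smul, add_zero]
        rfl
      show act (S.tv w 0) φ = φ
      rw [h5, act_one]
    · intro s t φ
      show act (S.tv w (s + t)) φ = act (S.tv w s) (act (S.tv w t) φ)
      rw [S.tv_add, act_mul]
    · intro φ
      have h5 : ∀ l : F, act (S.tv w l) φ x = (1 + l • S.Δ w) * φ x * (1 - l • S.Δ w) := by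
        intro l
        have h6 : (((S.tv w l)⁻¹ : (Module.End F V)ˣ) : Module.End F V) * x * (S.tv w l : (Module.End F V)ˣ) = x := by
          have h7 : x * ((S.tv w l : (Module.End F V)ˣ) : Module.End F V) = (S.tv w l : (Module.End F V)ˣ) * x := by
            rw [S.coe_tv, mul_add, add_mul, mul_one, one_mul, mul_smul_comm, smul_mul_assoc, hx]
          rw [mul_assoc, h7, inv_mul_cancel_left']
        rw [act_apply, h6, S.coe_tv, S.coe_tv_inv]
      show ∑ l : F, act (S.tv w l) φ x = 0
      simp only [h5]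
      exact sum_conj_eq_zero hq _ _
    · intro φ hφ l
      obtain ⟨h5, h6, h7⟩ := Finset.mem_filter.1 hφ
      refine Finset.mem_filter.2 ⟨hΩact _ (hM.tv_mem _ _) _ h5, fun h => h6 ?_, fun h => h7 (hcoconj _ _ _ h)⟩
      have h8 : act (S.tv w l)⁻¹ (act (S.tv w l) φ) = act (S.tv w l)⁻¹ π := congrArg _ h
      rw [← act_mul, inv_mul_cancel, act_one] at h8
      rw [h8]
      exact hactop _ (IsOp.tv_inv w l) (by rw [inv_inv]; exact IsOp.tv w l)
    · intro φ hφ l hl
      obtain ⟨h5, h6, h7⟩ := Finset.mem_filter.1 hφ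
      exact hfree φ h5 h6 h7 w hw l hl
  have hzero' : ∀ x, ∑ φ ∈ N, φ x = 0 := by
    intro x
    refine span_all hW (fun x => ∑ φ ∈ N, φ x = 0) h2 hwu ?_ ?_ ?_ ?_ x
    · intro X hX
      exact hzero w hw0 X ((IsOp.Δ w).comm hX).symm
    · intro b hb Z
      refine hzero b hb _ ?_
      ext x
      simp only [Module.End.mul_apply, S.Δ_apply, LinearMap.comp_apply, S.ci, S.alt, zero_smul, map_zero]
    · intro X Y hX hY
      show ∑ φ ∈ N, φ (X + Y) = 0
      simp only [map_add]
      rw [Finset.sum_add_distrib, hX, hY, add_zero]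
    · intro l X hX
      show ∑ φ ∈ N, φ (l • X) = 0
      simp only [map_smul]
      rw [← Finset.smul_sum, hX, smul_zero]
  -- `F`
  have hsum : ∀ x, ∑ φ ∈ Ω, φ x = π x + ∑ φ ∈ (Ω.erase π).filter (fun φ => Co φ), φ x := by
    intro x
    rw [← Finset.add_sum_erase Ω (fun φ => φ x) hπΩ, ← Finset.sum_filter_add_sum_filter_not (Ω.erase π) (fun φ => Co φ)]
    have h5 : (Ω.erase π).filter (fun φ => ¬ Co φ) = N := by
      ext φ
      simp only [N, Finset.mem_filter, Finset.mem_erase]
      tauto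
    rw [h5, hzero', add_zero]
  have hequiv : ∀ g ∈ M, ∀ x, ∑ φ ∈ Ω, φ ((g : Module.End F V) * x * ((g⁻¹ : (Module.End F V)ˣ) : Module.End F V))
      = (g : Module.End F V) * (∑ φ ∈ Ω, φ x) * ((g⁻¹ : (Module.End F V)ˣ) : Module.End F V) := by
    intro g hg x
    rw [Finset.mul_sum, Finset.sum_mul]
    refine Finset.sum_bij' (fun φ _ => act g⁻¹ φ) (fun φ _ => act g φ) ?_ ?_ ?_ ?_ ?_
    · intro φ hφ
      exact hΩact _ (M.inv_mem hg) _ hφ
    · intro φ hφ
      exact hΩact _ hg _ hφ
    · intro φ hφ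
      show act g (act g⁻¹ φ) = φ
      rw [← act_mul, mul_inv_cancel, act_one]
    · intro φ hφ
      show act g⁻¹ (act g φ) = φ
      rw [← act_mul, inv_mul_cancel, act_one]
    · intro φ hφ
      rw [act_apply, inv_inv]
      simp only [mul_assoc, tv_mul_inv_cancel_left, Units.mul_inv, mul_one]
  have hFΔ : ∀ b, ∑ φ ∈ Ω, φ (S.Δ b) = S.Δ b := by
    intro b
    rw [hsum, hπop _ (IsOp.Δ b), add_eq_left]
    refine Finset.sum_eq_zero fun φ hφ => ?_
    obtain ⟨h5, h6⟩ := Finset.mem_filter.1 hφ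
    obtain ⟨g, hg, rfl⟩ := (hΩ _).1 (Finset.mem_of_mem_erase h5)
    rw [act_apply]
    have h7 : π (((g⁻¹ : (Module.End F V)ˣ) : Module.End F V) * S.Δ b * g) = 0 := by
      refine hπ.apply_zero hwu hwW hn fun a ha => ?_
      have h8 : S.IsCo ((g : Module.End F V) * a * ((g⁻¹ : (Module.End F V)ˣ) : Module.End F V)) := by
        have h9 := h6 ((g : Module.End F V) * a * ((g⁻¹ : (Module.End F V)ˣ) : Module.End F V))
        rwa [act_conj, hπop a ha] at h9
      have h9 := trace_Δ_co h8 b
      rw [← h9, mul_assoc, mul_assoc, LinearMap.trace_mul_comm, mul_assoc, mul_assoc]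
    rw [h7, mul_zero, zero_mul]
  -- conclusion
  obtain ⟨g, hg, b, hb, l, hl, rfl⟩ := he
  obtain ⟨X, hX⟩ : ∃ X, X = (g : Module.End F V) * S.Δ b * ((g⁻¹ : (Module.End F V)ˣ) : Module.End F V) := ⟨_, rfl⟩
  have hFX : X = π X + ∑ φ ∈ (Ω.erase π).filter (fun φ => Co φ), φ X := by
    rw [← hsum]
    nth_rewrite 2 [hX]
    rw [hequiv g hg, hFΔ, hX]
  have hXX : X * X = 0 := by
    rw [hX]
    simp only [mul_assoc, inv_mul_cancel_left']
    rw [← mul_assoc (S.Δ b), S.Δ_mul_Δ_of_perp (S.alt b), zero_mul, mul_zero]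
  have hco : S.IsCo (∑ φ ∈ (Ω.erase π).filter (fun φ => Co φ), φ X) :=
    IsCo.sum _ _ fun φ hφ => (Finset.mem_filter.1 hφ).2 X
  have hev : ((g * S.tv b l * g⁻¹ : (Module.End F V)ˣ) : Module.End F V) = 1 + l • X := by
    rw [Units.val_mul, Units.val_mul, S.coe_tv, mul_add, add_mul, mul_one, Units.mul_inv, mul_smul_comm,
      smul_mul_assoc, hX]
  have hdich : S.IsOp X ∨ S.IsCo X := by
    have h5 := op_or_co hwu hwW h2 (hπ.op X) hco (by rw [← hFX, hXX])
    rwa [← hFX] at h5
  rcases hdich with hop | hco'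
  · right
    obtain ⟨b', μ, hb', hμ⟩ := op_sq_zero hwu hwW hop hXX
    refine ⟨b', l * μ, hb', Units.ext ?_⟩
    rw [hev, hμ, smul_smul, S.coe_tv]
  · left
    intro w' l'
    apply Units.ext
    rw [Units.val_mul (S.tv w' l'), Units.val_mul _ (S.tv w' l'), hev]
    exact (IsOp.tv w' l').comm (IsCo.one.add (hco'.smul l))

end Slot

end Cfsg.Agent.H874
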