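import Cfsg.Agent.H874.SlotOp

/-!
# Two-dimensional slots: sums over free orbits and the trace projection
-/

set_option autoImplicit false
set_option linter.unusedSimpArgs false
set_option linter.unusedVariables false
set_option linter.unusedSectionVars false

namespace Cfsg.Agent.H874

open Subgroup

/-- Sums over free orbits. -/
theorem sum_eq_zero_of_free {X Y C : Type*} [DecidableEq X] [AddCommGroup Y] [AddGroup C] [Fintype C] (a : C → X → X)
    (h0 : ∀ x, a 0 x = x) (hadd : ∀ s t x, a (s + t) x = a s (a t x)) (f : X → Y)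
    (hf : ∀ x, ∑ s, f (a s x) = 0) (N : Finset X) (hN : ∀ x ∈ N, ∀ s, a s x ∈ N)
    (hfree : ∀ x ∈ N, ∀ s, a s x = x → s = 0) : ∑ x ∈ N, f x = 0 := by
  classical
  induction N using Finset.strongInduction with
  | H N ih =>
    rcases N.eq_empty_or_nonempty with rfl | ⟨x, hx⟩
    · exact Finset.sum_empty
    let O : Finset X := Finset.univ.image fun s => a s x
    have hO : O ⊆ N := by
      intro y hy
      obtain ⟨s, -, rfl⟩ := Finset.mem_image.1 hy
      exact hN x hx s
    have hinj : ∀ s t, a s x = a t x → s = t := by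
      intro s t h
      have h1 : a (-t + s) x = x := by rw [hadd, h, ← hadd, neg_add_cancel, h0]
      exact (neg_add_eq_zero.1 (hfree x hx _ h1)).symm
    have hsum : ∑ y ∈ O, f y = 0 := by
      rw [Finset.sum_image (fun s _ t _ h => hinj s t h)]
      exact hf x
    rw [← Finset.sum_sdiff hO, hsum, add_zero]
    refine ih _ ?_ ?_ ?_
    · refine Finset.sdiff_ssubset hO ⟨x, ?_⟩
      exact Finset.mem_image.2 ⟨0, Finset.mem_univ _, h0 x⟩
    · intro y hy s
      obtain ⟨hy1, hy2⟩ := Finset.mem_sdiff.1 hy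
      refine Finset.mem_sdiff.2 ⟨hN y hy1 s, fun h => hy2 ?_⟩
      obtain ⟨t, -, ht⟩ := Finset.mem_image.1 h
      refine Finset.mem_image.2 ⟨-s + t, Finset.mem_univ _, ?_⟩
      rw [hadd, ht, ← hadd, neg_add_cancel, h0]
    · intro y hy s hs
      exact hfree y (Finset.mem_sdiff.1 hy).1 s hs

/-- The trace of conjugation by the `1 + l δ`, `δ * δ = 0`, is zero for `q > 3`. -/
theorem sum_conj_eq_zero {F A : Type*} [Field F] [Fintype F] [Ring A] [Algebra F A] (hq : 3 < Fintype.card F) (δ y : A) :
    ∑ l : F, (1 + l • δ) * y * (1 - l • δ) = 0 := by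
  have h0 : ∑ l : F, l ^ 0 = 0 := FiniteField.sum_pow_lt_card_sub_one F 0 (by omega)
  have h1 : ∑ l : F, l ^ 1 = 0 := FiniteField.sum_pow_lt_card_sub_one F 1 (by omega)
  have h2 : ∑ l : F, l ^ 2 = 0 := FiniteField.sum_pow_lt_card_sub_one F 2 (by omega)
  have h3 : ∀ l : F, (1 + l • δ) * y * (1 - l • δ)
      = l ^ 0 • y + l ^ 1 • (δ * y - y * δ) - l ^ 2 • (δ * y * δ) := by
    intro l
    rw [pow_zero, one_smul, pow_one, pow_two]
    simp only [add_mul, mul_sub, sub_mul, one_mul, mul_one, smul_mul_assoc, mul_smul_comm, smul_sub, smul_add, smul_smul]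
    abel
  simp only [h3]
  rw [Finset.sum_sub_distrib, Finset.sum_add_distrib, ← Finset.sum_smul, ← Finset.sum_smul, ← Finset.sum_smul, h0, h1,
    h2, zero_smul, zero_smul, zero_smul, add_zero, sub_zero]

namespace Slot

variable {F W W' V : Type*} [Field F] [AddCommGroup W] [Module F W] [AddCommGroup W'] [Module F W']
    [AddCommGroup V] [Module F V] {S : Slot F W W' V}

/-- Conjugation of operators on `End V`. -/
def act (g : (Module.End F V)ˣ) (φ : Module.End F V →ₗ[F] Module.End F V) : Module.End F V →ₗ[F] Module.End F V where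
  toFun x := (g : Module.End F V) * φ (((g⁻¹ : (Module.End F V)ˣ) : Module.End F V) * x * g) *
    ((g⁻¹ : (Module.End F V)ˣ) : Module.End F V)
  map_add' x y := by rw [mul_add, add_mul, map_add, mul_add, add_mul]
  map_smul' l x := by
    rw [mul_smul_comm, smul_mul_assoc, map_smul, mul_smul_comm, smul_mul_assoc, RingHom.id_apply]

theorem act_apply (g : (Module.End F V)ˣ) (φ : Module.End F V →ₗ[F] Module.End F V) (x : Module.End F V) :
    act g φ x = (g : Module.End F V) * φ (((g⁻¹ : (Module.End F V)ˣ) : Module.End F V) * x * g) *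
    ((g⁻¹ : (Module.End F V)ˣ) : Module.End F V) := rfl

theorem act_one (φ : Module.End F V →ₗ[F] Module.End F V) : act 1 φ = φ := by
  ext x : 1
  rw [act_apply, inv_one, Units.val_one, one_mul, mul_one, one_mul, mul_one]

theorem act_mul (g h : (Module.End F V)ˣ) (φ : Module.End F V →ₗ[F] Module.End F V) :
    act (g * h) φ = act g (act h φ) := by
  ext x : 1
  simp only [act_apply, mul_inv_rev, Units.val_mul, mul_assoc]

theorem act_conj (g : (Module.End F V)ˣ) (φ : Module.End F V →ₗ[F] Module.End F V) (x : Module.End F V) :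
    act g φ ((g : Module.End F V) * x * ((g⁻¹ : (Module.End F V)ˣ) : Module.End F V))
      = (g : Module.End F V) * φ x * ((g⁻¹ : (Module.End F V)ˣ) : Module.End F V) := by
  have h : ((g⁻¹ : (Module.End F V)ˣ) : Module.End F V) *
      ((g : Module.End F V) * x * ((g⁻¹ : (Module.End F V)ˣ) : Module.End F V)) * g = x := by
    rw [mul_assoc, mul_assoc, mul_assoc, Units.inv_mul, mul_one, ← mul_assoc, Units.inv_mul, one_mul]
  rw [act_apply, h]

variable [FiniteDimensional F V] [FiniteDimensional F W']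

theorem trace_mul_E (X : Module.End F V) (a b : W) :
    LinearMap.trace F V (X * S.E a b) = LinearMap.trace F W' (S.c b ∘ₗ X ∘ₗ S.i a) := by
  have h : X * S.E a b = (X ∘ₗ S.i a) ∘ₗ S.c b := rfl
  rw [h, LinearMap.trace_comp_comm']

theorem trace_mul_Δ (X : Module.End F V) (a : W) :
    LinearMap.trace F V (X * S.Δ a) = LinearMap.trace F W' (S.c a ∘ₗ X ∘ₗ S.i a) := trace_mul_E X a a

theorem trace_Δ_co {Y : Module.End F V} (hY : S.IsCo Y) (b : W) : LinearMap.trace F V (S.Δ b * Y) = 0 := by
  rw [LinearMap.trace_mul_comm, trace_mul_Δ]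
  obtain ⟨Z, hZ⟩ := hY
  have h : S.c b ∘ₗ Y ∘ₗ S.i b = 0 := by
    ext y
    rw [LinearMap.comp_apply, LinearMap.comp_apply, hZ, S.ci, S.alt, zero_smul, LinearMap.zero_apply]
  rw [h, map_zero]

/-- `φ` is the projection on `A` orthogonal for the trace form. -/
structure IsPr (S : Slot F W W' V) (φ : Module.End F V →ₗ[F] Module.End F V) : Prop where
  op : ∀ x, S.IsOp (φ x)
  tr : ∀ x a, S.IsOp a → LinearMap.trace F V (φ x * a) = LinearMap.trace F V (x * a)

section Two

variable {w u : W} (hwu : S.ω w u = 1) (hW : ∀ x, x = S.ω w x • u - S.ω u x • w)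

include hwu hW

theorem op_eq_zero (hn : (Module.finrank F W' : F) ≠ 0) {X : Module.End F V} (hX : S.IsOp X)
    (h : ∀ a, S.IsOp a → LinearMap.trace F V (X * a) = 0) : X = 0 := by
  have huw := huw' hwu
  obtain ⟨α, β, γ, κ, rfl⟩ := eq_op hwu hW hX
  have hX1 : ∀ t, (α • S.E w w + β • S.E w u + γ • S.E u w + κ • S.E u u) (S.i w t)
      = - (β • S.i w t) - κ • S.i u t := by
    intro t
    simp only [LinearMap.add_apply, LinearMap.smul_apply, E_apply, S.ci, S.alt, huw, zero_smul, map_zero, smul_zero,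
      neg_smul, one_smul, map_neg, smul_neg, map_sub, map_smul]
    abel
  have hX2 : ∀ t, (α • S.E w w + β • S.E w u + γ • S.E u w + κ • S.E u u) (S.i u t)
      = α • S.i w t + γ • S.i u t := by
    intro t
    simp only [LinearMap.add_apply, LinearMap.smul_apply, E_apply, S.ci, S.alt, hwu, zero_smul, map_zero, smul_zero,
      neg_smul, one_smul, map_neg, smul_neg, map_add, map_smul]
    abel
  generalize hXX : α • S.E w w + β • S.E w u + γ • S.E u w + κ • S.E u u = X at *
  have key : ∀ (a b : W) (m : F), (∀ t, S.c b (X (S.i a t)) = m • t) → m = 0 := by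
    intro a b m hm
    have h1 := h _ (IsOp.E (S := S) a b)
    rw [trace_mul_E] at h1
    have h3 : S.c b ∘ₗ X ∘ₗ S.i a = m • (1 : Module.End F W') := by
      ext t
      rw [LinearMap.comp_apply, LinearMap.comp_apply, hm, LinearMap.smul_apply, Module.End.one_apply]
    rw [h3, map_smul, LinearMap.trace_one, smul_eq_mul] at h1
    exact (mul_eq_zero.1 h1).resolve_right hn
  have hβ : β = 0 := by
    refine key w u β fun t => ?_
    rw [hX1, map_sub, map_neg, map_smul, map_smul, S.ci, S.ci, S.alt, huw, zero_smul, smul_zero, sub_zero, neg_smul,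
      one_smul, smul_neg, neg_neg]
  have hκ : κ = 0 := by
    rw [← neg_eq_zero]
    refine key w w _ fun t => ?_
    rw [hX1, map_sub, map_neg, map_smul, map_smul, S.ci, S.ci, S.alt, hwu, zero_smul, smul_zero, neg_zero, zero_sub,
      one_smul, neg_smul]
  have hα : α = 0 := by
    rw [← neg_eq_zero]
    refine key u u _ fun t => ?_
    rw [hX2, map_add, map_smul, map_smul, S.ci, S.ci, S.alt, huw, zero_smul, smul_zero, add_zero, neg_smul,
      one_smul, smul_neg, neg_smul]
  have hγ : γ = 0 := by
    refine key u w _ fun t => ?_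
    rw [hX2, map_add, map_smul, map_smul, S.ci, S.ci, S.alt, hwu, zero_smul, smul_zero, zero_add, one_smul]
  rw [← hXX, hα, hβ, hγ, hκ, zero_smul, zero_smul, zero_smul, zero_smul, add_zero, add_zero, add_zero]

theorem exists_isPr (hn : (Module.finrank F W' : F) ≠ 0) : ∃ π, S.IsPr π := by
  have huw := huw' hwu
  let t : W → W → (Module.End F V →ₗ[F] F) := fun a b =>
    { toFun := fun X => LinearMap.trace F W' (S.c b ∘ₗ X ∘ₗ S.i a)
      map_add' := fun X Y => by rw [LinearMap.add_comp, LinearMap.comp_add, map_add]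
      map_smul' := fun l X => by rw [LinearMap.smul_comp, LinearMap.comp_smul, map_smul, RingHom.id_apply] }
  let ν : F := (Module.finrank F W' : F)⁻¹
  let π : Module.End F V →ₗ[F] Module.End F V :=
    ν • ((t u w).smulRight (S.E u w) - (t w w).smulRight (S.E u u) - (t u u).smulRight (S.E w w)
      + (t w u).smulRight (S.E w u))
  have hπ : ∀ X, π X = ν • (t u w X • S.E u w - t w w X • S.E u u - t u u X • S.E w w + t w u X • S.E w u) := by
    intro X
    rfl
  have hop : ∀ x, S.IsOp (π x) := by
    intro x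
    rw [hπ]
    exact ((((IsOp.E u w).smul _).sub ((IsOp.E u u).smul _)).sub ((IsOp.E w w).smul _)).add
      ((IsOp.E w u).smul _) |>.smul _
  have hν : ν * (Module.finrank F W' : F) = 1 := inv_mul_cancel₀ hn
  have htr : ∀ x (a b : W) (m : F), (∀ y, S.c b (π x (S.i a y)) = (ν * m) • y) →
      LinearMap.trace F V (π x * S.E a b) = m := by
    intro x a b m h
    rw [trace_mul_E]
    have h3 : S.c b ∘ₗ π x ∘ₗ S.i a = (ν * m) • (1 : Module.End F W') := by
      ext t
      rw [LinearMap.comp_apply, LinearMap.comp_apply, h, LinearMap.smul_apply, Module.End.one_apply]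
    rw [h3, map_smul, LinearMap.trace_one, smul_eq_mul, mul_assoc, mul_comm m, ← mul_assoc, hν, one_mul]
  refine ⟨π, hop, fun x a ha => ?_⟩
  obtain ⟨α, β, γ, κ, rfl⟩ := eq_op hwu hW ha
  have k1 : LinearMap.trace F V (π x * S.E w w) = LinearMap.trace F V (x * S.E w w) := by
    rw [trace_mul_E x]
    refine htr x w w _ fun y => ?_
    show _ = (ν * t w w x) • y
    rw [hπ]
    simp only [LinearMap.add_apply, LinearMap.sub_apply, LinearMap.smul_apply, E_apply, S.ci, S.alt, huw, hwu,
      zero_smul, map_zero, smul_zero, neg_smul, one_smul, map_neg, smul_neg, map_sub, map_smul, map_add, sub_zero,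
      zero_sub, neg_neg, add_zero, zero_add, neg_zero, smul_smul]
  have k2 : LinearMap.trace F V (π x * S.E w u) = LinearMap.trace F V (x * S.E w u) := by
    rw [trace_mul_E x]
    refine htr x w u _ fun y => ?_
    show _ = (ν * t w u x) • y
    rw [hπ]
    simp only [LinearMap.add_apply, LinearMap.sub_apply, LinearMap.smul_apply, E_apply, S.ci, S.alt, huw, hwu,
      zero_smul, map_zero, smul_zero, neg_smul, one_smul, map_neg, smul_neg, map_sub, map_smul, map_add, sub_zero,
      zero_sub, neg_neg, add_zero, zero_add, neg_zero, smul_smul]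
  have k3 : LinearMap.trace F V (π x * S.E u w) = LinearMap.trace F V (x * S.E u w) := by
    rw [trace_mul_E x]
    refine htr x u w _ fun y => ?_
    show _ = (ν * t u w x) • y
    rw [hπ]
    simp only [LinearMap.add_apply, LinearMap.sub_apply, LinearMap.smul_apply, E_apply, S.ci, S.alt, huw, hwu,
      zero_smul, map_zero, smul_zero, neg_smul, one_smul, map_neg, smul_neg, map_sub, map_smul, map_add, sub_zero,
      zero_sub, neg_neg, add_zero, zero_add, neg_zero, smul_smul]
  have k4 : LinearMap.trace F V (π x * S.E u u) = LinearMap.trace F V (x * S.E u u) := by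
    rw [trace_mul_E x]
    refine htr x u u _ fun y => ?_
    show _ = (ν * t u u x) • y
    rw [hπ]
    simp only [LinearMap.add_apply, LinearMap.sub_apply, LinearMap.smul_apply, E_apply, S.ci, S.alt, huw, hwu,
      zero_smul, map_zero, smul_zero, neg_smul, one_smul, map_neg, smul_neg, map_sub, map_smul, map_add, sub_zero,
      zero_sub, neg_neg, add_zero, zero_add, neg_zero, smul_smul]
  simp only [mul_add, mul_smul_comm, map_add, map_smul, k1, k2, k3, k4]

theorem IsPr.unique (hn : (Module.finrank F W' : F) ≠ 0) {φ ψ : Module.End F V →ₗ[F] Module.End F V} (h1 : S.IsPr φ)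
    (h2 : S.IsPr ψ) : φ = ψ := by
  ext x : 1
  rw [← sub_eq_zero]
  refine op_eq_zero hwu hW hn ((h1.op x).sub (h2.op x)) fun a ha => ?_
  rw [sub_mul, map_sub, h1.tr x a ha, h2.tr x a ha, sub_self]

theorem IsPr.apply_op (hn : (Module.finrank F W' : F) ≠ 0) {φ : Module.End F V →ₗ[F] Module.End F V} (h1 : S.IsPr φ)
    {X : Module.End F V} (hX : S.IsOp X) : φ X = X := by
  rw [← sub_eq_zero]
  refine op_eq_zero hwu hW hn ((h1.op X).sub hX) fun a ha => ?_
  rw [sub_mul, map_sub, h1.tr X a ha, sub_self]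

theorem IsPr.apply_zero (hn : (Module.finrank F W' : F) ≠ 0) {φ : Module.End F V →ₗ[F] Module.End F V} (h1 : S.IsPr φ)
    {X : Module.End F V} (hX : ∀ a, S.IsOp a → LinearMap.trace F V (X * a) = 0) : φ X = 0 :=
  op_eq_zero hwu hW hn (h1.op X) fun a ha => by rw [h1.tr X a ha, hX a ha]

theorem IsPr.act_eq (hn : (Module.finrank F W' : F) ≠ 0) {φ : Module.End F V →ₗ[F] Module.End F V} (h1 : S.IsPr φ)
    {g : (Module.End F V)ˣ}
    (hg : ∀ X, S.IsOp X → S.IsOp ((g : Module.End F V) * X * ((g⁻¹ : (Module.End F V)ˣ) : Module.End F V)))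
    (hg' : ∀ X, S.IsOp X → S.IsOp (((g⁻¹ : (Module.End F V)ˣ) : Module.End F V) * X * (g : Module.End F V))) :
    act g φ = φ := by
  refine IsPr.unique hwu hW hn ⟨fun x => hg _ (h1.op _), fun x a ha => ?_⟩ h1
  rw [act_apply]
  have e1 : LinearMap.trace F V ((g : Module.End F V) * φ (((g⁻¹ : (Module.End F V)ˣ) : Module.End F V) * x * g) *
      ((g⁻¹ : (Module.End F V)ˣ) : Module.End F V) * a)
      = LinearMap.trace F V (φ (((g⁻¹ : (Module.End F V)ˣ) : Module.End F V) * x * g) *
        (((g⁻¹ : (Module.End F V)ˣ) : Module.End F V) * a * g)) := by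
    rw [mul_assoc, mul_assoc, LinearMap.trace_mul_comm, mul_assoc]
  have e2 : LinearMap.trace F V ((((g⁻¹ : (Module.End F V)ˣ) : Module.End F V) * x * g) *
        (((g⁻¹ : (Module.End F V)ˣ) : Module.End F V) * a * g)) = LinearMap.trace F V (x * a) := by
    have e3 : (((g⁻¹ : (Module.End F V)ˣ) : Module.End F V) * x * g) *
        (((g⁻¹ : (Module.End F V)ˣ) : Module.End F V) * a * g)
        = ((g⁻¹ : (Module.End F V)ˣ) : Module.End F V) * (x * a * g) := by
      rw [mul_assoc, ← mul_assoc (g : Module.End F V), ← mul_assoc (g : Module.End F V), Units.mul_inv, one_mul]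
      simp only [mul_assoc]
    rw [e3, LinearMap.trace_mul_comm, mul_assoc, mul_assoc, Units.mul_inv, mul_one]
  rw [e1, h1.tr _ _ (hg' a ha), e2]

end Two

end Slot

end Cfsg.Agent.H874
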