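import Cfsg.Agent.H874.TenGood
import Cfsg.Agent.H875.SpMcL

/-!
# The tensor-wreath subgroups of `Sp_2m(q)`, `q` odd, are maximal
-/

set_option autoImplicit false
set_option linter.unusedSimpArgs false
set_option linter.unusedVariables false
set_option linter.unusedSectionVars false

namespace Cfsg.Agent.H874

open Matrix Cfsg.Agent.H889 Cfsg.Geo Cfsg
open Cfsg.Agent.H875 Cfsg.Agent.ClassicalGeometry.SympBasic Cfsg.Agent.ClassicalGeometry.SympSiegel
open scoped MatrixGroups

variable {F : Type*} [Field F] {k t m : ℕ}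

/-- `F ^ κ ≃ F ^ ι` given by `x ↦ P (x ∘ e)`. -/
noncomputable def psi (e : (Fin m ⊕ Fin m) ≃ (Fin t → Fin k)) (P : GL (Fin m ⊕ Fin m) F) :
    ((Fin t → Fin k) → F) →ₗ[F] (Fin m ⊕ Fin m → F) :=
  Matrix.toLin' (P : Matrix (Fin m ⊕ Fin m) (Fin m ⊕ Fin m) F) ∘ₗ LinearMap.funLeft F F e

theorem psi_apply (e : (Fin m ⊕ Fin m) ≃ (Fin t → Fin k)) (P : GL (Fin m ⊕ Fin m) F) (x : (Fin t → Fin k) → F) :
    psi e P x = (P : Matrix (Fin m ⊕ Fin m) (Fin m ⊕ Fin m) F) *ᵥ (x ∘ e) := rfl

theorem psi_surj (e : (Fin m ⊕ Fin m) ≃ (Fin t → Fin k)) (P : GL (Fin m ⊕ Fin m) F) (v : Fin m ⊕ Fin m → F) :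
    ∃ x, v = psi e P x := exists_preimage e P v

theorem psi_inj (e : (Fin m ⊕ Fin m) ≃ (Fin t → Fin k)) (P : GL (Fin m ⊕ Fin m) F) : Function.Injective (psi e P) := by
  intro x y h
  rw [psi_apply, psi_apply] at h
  have h1 := congrArg (fun v => ((P⁻¹ : GL (Fin m ⊕ Fin m) F) : Matrix (Fin m ⊕ Fin m) (Fin m ⊕ Fin m) F) *ᵥ v) h
  simp only [Matrix.mulVec_mulVec] at h1
  rw [← Units.val_mul, inv_mul_cancel, Units.val_one, Matrix.one_mulVec, Matrix.one_mulVec] at h1
  funext a
  have h2 := congrFun h1 (e.symm a)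
  simpa using h2

/-- `GL(κ, F)` as units of the endomorphism ring. -/
noncomputable def toEnd : GL (Fin t → Fin k) F ≃* (Module.End F ((Fin t → Fin k) → F))ˣ :=
  Units.mapEquiv (Matrix.toLinAlgEquiv' : Matrix (Fin t → Fin k) (Fin t → Fin k) F ≃ₐ[F] _).toMulEquiv

theorem coe_toEnd (g : GL (Fin t → Fin k) F) :
    ((toEnd g : (Module.End F ((Fin t → Fin k) → F))ˣ) : Module.End F ((Fin t → Fin k) → F)) = Matrix.toLin' g.val := rfl

/-- Elements of the symplectic group as endomorphisms of the tensor power. -/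
noncomputable def Phi (e : (Fin m ⊕ Fin m) ≃ (Fin t → Fin k)) (P : GL (Fin m ⊕ Fin m) F) :
    Matrix.symplecticGroup (Fin m) F →* (Module.End F ((Fin t → Fin k) → F))ˣ :=
  (toEnd.toMonoidHom.comp (conjEquiv e P).symm.toMonoidHom).comp (toGL m F)

theorem Phi_apply (e : (Fin m ⊕ Fin m) ≃ (Fin t → Fin k)) (P : GL (Fin m ⊕ Fin m) F)
    (g : Matrix.symplecticGroup (Fin m) F) :
    Phi e P g = toEnd ((conjEquiv e P).symm (toGL m F g)) := rfl

theorem psi_Phi (e : (Fin m ⊕ Fin m) ≃ (Fin t → Fin k)) (P : GL (Fin m ⊕ Fin m) F)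
    (g : Matrix.symplecticGroup (Fin m) F) (x : (Fin t → Fin k) → F) :
    psi e P ((Phi e P g : Module.End F ((Fin t → Fin k) → F)) x) = g • psi e P x := by
  rw [Phi_apply, coe_toEnd, Matrix.toLin'_apply, psi_apply, ← mulVec_conjEquiv, MulEquiv.apply_symm_apply, psi_apply,
    toGL_mulVec]

/-- **Class 7 subgroups of symplectic groups in odd characteristic are maximal.** -/
theorem tensorWreath_maximal {F : Type*} [Field F] [Fintype F] (m : ℕ) (hm : 0 < m) (hodd : Odd (Fintype.card F))
    (k t : ℕ) (ht : Odd t) (ht3 : 3 ≤ t) (hex : ¬ (Fintype.card F = 3 ∧ k = 2))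
    (e : (Fin m ⊕ Fin m) ≃ (Fin t → Fin k)) (P : Matrix.GeneralLinearGroup (Fin m ⊕ Fin m) F)
    (f₁ : (Fin k → F) → (Fin k → F) → F) (hf₁ : Cfsg.Geo.IsSymplecticForm f₁)
    (hT : Cfsg.Geo.IsTensorPowerFormStructure id (Cfsg.sympForm m F) f₁ e P) :
    Cfsg.Geo.IsMaximalIn (Cfsg.spGL m F) (Cfsg.Geo.tensorWreathSubgroup k t e P ⊓ Cfsg.spGL m F) := by
  classical
  -- characteristic
  obtain ⟨p, hpF⟩ := CharP.exists F
  have hpp : p.Prime := CharP.char_is_prime F p
  have : Fact p.Prime := ⟨hpp⟩
  have h2 : (2 : F) ≠ 0 := by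
    intro h
    have hc : ((Fintype.card F : ℕ) : F) = 0 := Nat.cast_card_eq_zero F
    obtain ⟨n, hn⟩ := hodd
    rw [hn] at hc
    push_cast at hc
    rw [h, zero_mul, zero_add] at hc
    exact one_ne_zero hc
  have hp : Odd p := by
    rcases hpp.eq_two_or_odd' with h | h
    · exfalso
      apply h2
      have := CharP.cast_eq_zero F p
      rw [h] at this
      exact_mod_cast this
    · exact h
  -- the form
  let ω : (Fin k → F) →ₗ[F] (Fin k → F) →ₗ[F] F := LinearMap.mk₂ F f₁ hf₁.bilinear.add_left
    (fun c x y => by rw [hf₁.bilinear.smul_left, smul_eq_mul]) hf₁.bilinear.add_right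
    (fun c x y => by rw [hf₁.bilinear.smul_right, smul_eq_mul])
  have hωf : ∀ x y, ω x y = f₁ x y := fun x y => rfl
  have hω : ∀ w, ω w w = 0 := hf₁.alternating
  have hn : ∀ w, (∀ x, ω w x = 0) → w = 0 := by
    intro w hw
    by_contra h0
    obtain ⟨-, x, hx⟩ := hf₁.nondegenerate w h0
    exact hx (hw x)
  have skew := skew_of_alt hω
  have hk0 : k ≠ 0 := by
    rintro rfl
    have h1 : IsEmpty (Fin t → Fin 0) := ⟨fun f => (f ⟨0, by omega⟩).elim0⟩
    exact h1.elim (e (Sum.inl ⟨0, hm⟩))
  have : NeZero k := ⟨hk0⟩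
  have e0 : (Pi.single 0 1 : Fin k → F) ≠ 0 := by
    intro h
    have := congrFun h 0
    rw [Pi.single_eq_same] at this
    exact one_ne_zero this
  have hk2 : 2 ≤ k := by
    by_contra hk
    have hk1 : k = 1 := by omega
    obtain ⟨f, hf⟩ := exists_one hn e0
    subst hk1
    have h1 : f = f 0 • (Pi.single 0 1 : Fin 1 → F) := by
      funext i
      rw [Subsingleton.elim i 0]
      simp
    rw [h1, map_smul, hω, smul_zero] at hf
    exact zero_ne_one hf
  have hcom : ∀ u v : Fin k → F, u ≠ 0 → v ≠ 0 → ∃ x, ω u x ≠ 0 ∧ ω v x ≠ 0 := by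
    intro u v hu hv
    obtain ⟨x1, hx1⟩ := exists_one hn hu
    obtain ⟨x2, hx2⟩ := exists_one hn hv
    by_cases h1 : ω v x1 = 0
    · by_cases h3 : ω u x2 = 0
      · refine ⟨x1 + x2, ?_, ?_⟩
        · rw [map_add, hx1, h3, add_zero]; exact one_ne_zero
        · rw [map_add, hx2, h1, zero_add]; exact one_ne_zero
      · exact ⟨x2, h3, by rw [hx2]; exact one_ne_zero⟩
    · exact ⟨x1, by rw [hx1]; exact one_ne_zero, h1⟩
  obtain ⟨c0, hc0, hform⟩ := hT
  let β : ((Fin t → Fin k) → F) →ₗ[F] ((Fin t → Fin k) → F) →ₗ[F] F :=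
    LinearMap.mk₂ F (fun x y => sympForm m F (psi e P x) (psi e P y))
      (fun x y z => by rw [map_add, sympForm_add_left])
      (fun c x y => by rw [map_smul, sympForm_smul_left, smul_eq_mul])
      (fun x y z => by rw [map_add, sympForm_add_right])
      (fun c x y => by rw [map_smul, sympForm_smul_right, smul_eq_mul])
  have hβf : ∀ x y, β x y = sympForm m F (psi e P x) (psi e P y) := fun x y => rfl
  have hβ : ∀ xs ys : Fin t → (Fin k → F), β (tp xs) (tp ys) = c0 * ∏ i, ω (xs i) (ys i) := by
    intro xs ys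
    rw [hβf, psi_apply, psi_apply, hform, tensorPowerForm_tp f₁ hf₁.bilinear]
    rfl
  -- elements of the symplectic group
  have hmemG : ∀ g : GL (Fin t → Fin k) F, (∀ xs ys, β (g.val *ᵥ tp xs) (g.val *ᵥ tp ys) = β (tp xs) (tp ys)) →
      ∃ h : Matrix.symplecticGroup (Fin m) F, toGL m F h = conjEquiv e P g := by
    intro g hg
    have h1 : ∀ x y, β (g.val *ᵥ x) (g.val *ᵥ y) = β x y := by
      have h3 : β.compl₁₂ (Matrix.toLin' g.val) (Matrix.toLin' g.val) = β := by
        refine (Pi.basisFun F (Fin t → Fin k)).ext fun a => (Pi.basisFun F (Fin t → Fin k)).ext fun b => ?_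
        rw [LinearMap.compl₁₂_apply, Matrix.toLin'_apply, Matrix.toLin'_apply, Pi.basisFun_apply, Pi.basisFun_apply,
          single_eq_tp, single_eq_tp, hg]
      intro x y
      have h4 := LinearMap.congr_fun (LinearMap.congr_fun h3 x) y
      rwa [LinearMap.compl₁₂_apply, Matrix.toLin'_apply, Matrix.toLin'_apply] at h4
    have h3 : conjEquiv e P g ∈ spGL m F := by
      rw [mem_spGL_iff]
      intro u v
      obtain ⟨x, rfl⟩ := psi_surj e P u
      obtain ⟨y, rfl⟩ := psi_surj e P v
      have h4 := h1 x y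
      rw [hβf, hβf] at h4
      rw [psi_apply, psi_apply, mulVec_conjEquiv, mulVec_conjEquiv]
      exact h4
    rw [← toGL_range] at h3
    exact h3
  have hβG : ∀ (g : Matrix.symplecticGroup (Fin m) F) x y,
      β ((Phi e P g : Module.End F ((Fin t → Fin k) → F)) x) ((Phi e P g : Module.End F ((Fin t → Fin k) → F)) y)
        = β x y := by
    intro g x y
    rw [hβf, hβf, psi_Phi, psi_Phi, form_smul]
  have hPhi : ∀ (h : Matrix.symplecticGroup (Fin m) F) (g : GL (Fin t → Fin k) F), toGL m F h = conjEquiv e P g →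
      Phi e P h = toEnd g := by
    intro h g hg
    rw [Phi_apply, hg, MulEquiv.symm_apply_apply]
  have hKmem : ∀ (h : Matrix.symplecticGroup (Fin m) F) (g : GL (Fin t → Fin k) F), toGL m F h = conjEquiv e P g →
      g ∈ tensorWreathStandard k t F → toGL m F h ∈ tensorWreathSubgroup k t e P := by
    intro h g hg hgt
    rw [hg, tensorWreathSubgroup_eq]
    exact ⟨g, hgt, rfl⟩
  -- pure vectors
  have hpure : ∀ x : (Fin t → Fin k) → F, (∀ u : Fin t → (Fin k → F), (∀ i, u i ≠ 0) → β x (tp u) = 0) → x = 0 := by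
    intro x hx
    have h1 : ∀ y, β x y = 0 := by
      have h3 : β x = 0 := by
        refine (Pi.basisFun F (Fin t → Fin k)).ext fun b => ?_
        rw [Pi.basisFun_apply, single_eq_tp, LinearMap.zero_apply]
        refine hx _ fun i => ?_
        intro h
        have := congrFun h (b i)
        rw [Pi.single_eq_same] at this
        exact one_ne_zero this
      intro y
      rw [h3, LinearMap.zero_apply]
    by_contra h0
    have h3 : psi e P x ≠ 0 := by
      intro h
      exact h0 (psi_inj e P (by rw [h, map_zero]))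
    obtain ⟨v, hv, -⟩ := exists_both_ne_zero h3 h3
    obtain ⟨y, rfl⟩ := psi_surj e P v
    exact hv (h1 y)
  rw [show tensorWreathSubgroup k t e P ⊓ spGL m F = tensorWreathSubgroup k t e P ⊓ spGL m F from rfl]
  apply isMaximalIn_of
  · -- properness
    obtain ⟨w0, hw0⟩ : ∃ w0 : Fin k → F, w0 ≠ 0 := ⟨_, e0⟩
    obtain ⟨f, hf⟩ := exists_one hn hw0
    have hfw : ω f w0 = -1 := by rw [skew, hf]
    let z : (Fin t → Fin k) → F := tp fun _ => w0
    refine ⟨transv (psi e P z) 1, fun hmem => ?_⟩
    rw [tensorWreathSubgroup_eq] at hmem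
    obtain ⟨g, hgt, hg⟩ := hmem
    obtain ⟨gs, σ, hmon⟩ := exists_isMonomialOn hgt
    have h1 : psi e P (g.val *ᵥ tp fun _ => f) = psi e P ((tp fun _ => f) + (β (tp fun _ => f) z) • z) := by
      rw [psi_apply, ← mulVec_conjEquiv]
      have h3 : conjEquiv e P g = toGL m F (transv (psi e P z) 1) := hg
      rw [h3, toGL_mulVec, transv_smul, map_add, map_smul, one_mul]
      rfl
    have h3 := psi_inj e P h1
    rw [hmon] at h3
    -- contractions
    let ys : Fin t → (Fin k → F) := fun i => (gs i).val *ᵥ f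
    have h4 : tp ys = (tp fun _ => f) + (β (tp fun _ => f) z) • z := h3
    have hβz : β (tp fun _ => f) z = c0 * (-1) ^ t := by
      show β (tp fun _ => f) (tp fun _ => w0) = _
      rw [hβ]
      simp only [hfw, Finset.prod_const, Finset.card_univ, Fintype.card_fin]
    have hκ : β (tp fun _ => f) z ≠ 0 := by
      rw [hβz]
      exact mul_ne_zero hc0 (pow_ne_zero _ (neg_ne_zero.2 one_ne_zero))
    have q1 : ∀ vs : Fin t → (Fin k → F), c0 * ∏ i, ω (vs i) (ys i)
        = c0 * ∏ i, ω (vs i) f + β (tp fun _ => f) z * (c0 * ∏ i, ω (vs i) w0) := by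
      intro vs
      have e1 : β (tp vs) z = c0 * ∏ i, ω (vs i) w0 := hβ vs fun _ => w0
      have e2 : β (tp vs) (tp fun _ => f) = c0 * ∏ i, ω (vs i) f := hβ vs fun _ => f
      rw [← hβ vs ys, h4, map_add, map_smul, smul_eq_mul, e1, e2]
    have r1 : ∏ i, ω w0 (ys i) ≠ 0 := by
      have := q1 fun _ => w0
      simp only [hf, hω, Finset.prod_const, Finset.card_univ, Fintype.card_fin, one_pow] at this
      rw [zero_pow (by omega), mul_zero, mul_zero, add_zero] at this
      intro h0
      rw [h0, mul_zero, mul_one] at this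
      exact hc0 this.symm
    have r2 : ∏ i, ω f (ys i) ≠ 0 := by
      have := q1 fun _ => f
      simp only [hfw, hω, Finset.prod_const, Finset.card_univ, Fintype.card_fin] at this
      rw [zero_pow (by omega), mul_zero, zero_add] at this
      intro h0
      rw [h0, mul_zero] at this
      exact (mul_ne_zero hκ (mul_ne_zero hc0 (pow_ne_zero _ (neg_ne_zero.2 one_ne_zero)))) this.symm
    let i0 : Fin t := ⟨0, by omega⟩
    let i1 : Fin t := ⟨1, by omega⟩
    have h01 : i1 ≠ i0 := by
      intro h
      have := congrArg Fin.val h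
      simp [i0, i1] at this
    have r3 := q1 (Function.update (fun _ => w0) i0 f)
    rw [Finset.prod_eq_zero (Finset.mem_univ i0) (f := fun i => ω (Function.update (fun _ => w0) i0 f i) f)
        (by rw [Function.update_self]; exact hω f),
      Finset.prod_eq_zero (Finset.mem_univ i1) (f := fun i => ω (Function.update (fun _ => w0) i0 f i) w0)
        (by rw [Function.update_of_ne h01]; exact hω w0), mul_zero, mul_zero, add_zero] at r3
    have r4 : ∏ i, ω (Function.update (fun _ => w0) i0 f i) (ys i) ≠ 0 := by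
      refine Finset.prod_ne_zero_iff.2 fun i _ => ?_
      by_cases hi : i = i0
      · rw [hi, Function.update_self]
        exact Finset.prod_ne_zero_iff.1 r2 i0 (Finset.mem_univ i0)
      · rw [Function.update_of_ne hi]
        exact Finset.prod_ne_zero_iff.1 r1 i (Finset.mem_univ i)
    exact mul_ne_zero hc0 r4 r3
  · -- maximality
    rintro M hKM ⟨g₀, hg₀, hg₀K⟩
    let N : Subgroup (Module.End F ((Fin t → Fin k) → F))ˣ := M.map (Phi e P)
    have hNfin : Finite N := by
      have h1 : Finite M := inferInstance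
      exact Finite.of_surjective (fun x : M => (⟨Phi e P x, Subgroup.mem_map_of_mem _ x.2⟩ : N)) (by
        rintro ⟨_, x, hx, rfl⟩
        exact ⟨⟨x, hx⟩, rfl⟩)
    have hNmem : ∀ (g : GL (Fin t → Fin k) F), g ∈ tensorWreathStandard k t F →
        (∀ xs ys, β (g.val *ᵥ tp xs) (g.val *ᵥ tp ys) = β (tp xs) (tp ys)) → toEnd g ∈ N := by
      intro g hgt hg
      obtain ⟨h, hh⟩ := hmemG g hg
      exact ⟨h, hKM (hKmem h g hh hgt), hPhi h g hh⟩
    have hLev : LevelHyp ω N := by
      constructor
      · intro g g' h1 h3 h4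
        let gs : Fin t → GL (Fin k) F := fun i => ⟨g i, g' i, h1 i, h3 i⟩
        refine ⟨toEnd (pmGL gs), hNmem _ (pmGL_mem gs) ?_, rfl, ?_⟩
        · intro xs ys
          rw [coe_pmGL, pm_mulVec, pm_mulVec, hβ, hβ]
          congr 1
          refine Finset.prod_congr rfl fun i _ => ?_
          exact h4 i _ _
        · rw [← map_inv]
          rfl
      · intro σ
        obtain ⟨g, hgt, hg⟩ := exists_perm_mem (F := F) (k := k) σ
        refine ⟨toEnd g, hNmem g hgt ?_, fun A => ?_⟩
        · intro xs ys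
          rw [hg, hg, hβ, hβ]
          congr 1
          exact Equiv.prod_comp σ fun i => ω (xs i) (ys i)
        · refine end_ext_tp fun xs => ?_
          rw [Module.End.mul_apply, Module.End.mul_apply, PM_tp, coe_toEnd, Matrix.toLin'_apply, Matrix.toLin'_apply, hg,
            hg, PM_tp]
    have hroot : ∀ j v (l : F), In N (l • sl j (eM ω v v)) := by
      intro j v l
      obtain ⟨h1, h3, h4⟩ := isom_tv hω v l
      obtain ⟨u, hu, hu1, -⟩ := hLev.pure_mem (Function.update (fun _ => 1) j (1 + l • eM ω v v))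
        (Function.update (fun _ => 1) j (1 - l • eM ω v v))
        (by
          intro i
          by_cases hi : i = j
          · subst hi; rw [Function.update_self, Function.update_self, h1]
          · rw [Function.update_of_ne hi, Function.update_of_ne hi, mul_one])
        (by
          intro i
          by_cases hi : i = j
          · subst hi; rw [Function.update_self, Function.update_self, h3]
          · rw [Function.update_of_ne hi, Function.update_of_ne hi, mul_one])
        (by
          intro i x y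
          by_cases hi : i = j
          · subst hi; rw [Function.update_self, h4]
          · rw [Function.update_of_ne hi, Matrix.one_mulVec, Matrix.one_mulVec])
      refine ⟨u, hu, ?_⟩
      rw [hu1]
      show sl j (1 + l • eM ω v v) = _
      rw [sl_add, sl_one, sl_smul]
    have hiso : ∀ g ∈ N, ∀ x y, β ((g : Module.End F ((Fin t → Fin k) → F)) x)
        ((g : Module.End F ((Fin t → Fin k) → F)) y) = β x y := by
      rintro _ ⟨g, -, rfl⟩ x y
      exact hβG g x y
    rcases good_or_level hp hLev hω hn hcom hroot ht β hc0 hβ hiso with hgood | ⟨c', hc', hlev⟩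
    · -- good slots
      exfalso
      apply hg₀K
      have hk : k = 2 ∧ 3 < Fintype.card F ∨ 3 ≤ k := by
        by_cases h : k = 2
        · left
          refine ⟨h, ?_⟩
          have h1 : Fintype.card F ≠ 3 := fun h' => hex ⟨h', h⟩
          have h3 := Fintype.one_lt_card (α := F)
          obtain ⟨n, hn'⟩ := hodd
          omega
        · right; omega
      let g : GL (Fin t → Fin k) F := (conjEquiv e P).symm (toGL m F g₀)
      have hg : toGL m F g₀ = conjEquiv e P g := ((conjEquiv e P).apply_symm_apply _).symm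
      refine hKmem g₀ g hg (recog_mem hω hn hcom (by omega) g fun i w hw => ?_)
      obtain ⟨j, u, l, h⟩ := roots_of_good hp hLev hω hn hcom hroot hk hgood (g := Phi e P g₀) ⟨g₀, hg₀, rfl⟩ i hw
      refine ⟨j, u, l, ?_⟩
      rw [hPhi g₀ g hg, ← map_inv, coe_toEnd, coe_toEnd, sl_eq, sl_eq, Module.End.mul_eq_comp, Module.End.mul_eq_comp,
        ← Matrix.toLin'_mul, ← Matrix.toLin'_mul, ← map_smul] at h
      exact Matrix.toLin'.injective h
    · -- transvections
      have htr : ∀ u : Fin t → (Fin k → F), (∀ i, u i ≠ 0) → transv (psi e P (tp u)) (-(c' * c0⁻¹)) ∈ M := by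
        intro u hu
        obtain ⟨_, ⟨g, hg, rfl⟩, hgx⟩ := hasD_univ_apply β hc0 hβ hlev hu
        have h1 : g = transv (psi e P (tp u)) (-(c' * c0⁻¹)) := by
          apply ext_smul
          intro v
          obtain ⟨x, rfl⟩ := psi_surj e P v
          rw [← psi_Phi, hgx, transv_smul, map_add, map_smul, hβf, sympForm_swap (psi e P x)]
          congr 2
          ring
        rw [← h1]; exact hg
      have hfull : ∀ u : Fin t → (Fin k → F), (∀ i, u i ≠ 0) → Full M (psi e P (tp u)) := by
        intro u hu c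
        have hsq : ∀ a : F, transv (psi e P (tp u)) (a ^ 2 * -(c' * c0⁻¹)) ∈ M := by
          intro a
          by_cases ha : a = 0
          · rw [ha, zero_pow two_ne_zero, zero_mul, transv_zero]
            exact M.one_mem
          let i0 : Fin t := ⟨0, by omega⟩
          have h1 : tp (Function.update u i0 (a • u i0)) = a • tp u := by
            rw [tp_update_smul, Function.update_eq_self]
          have h3 := htr (Function.update u i0 (a • u i0)) fun i => by
            by_cases hi : i = i0
            · rw [hi, Function.update_self]; exact smul_ne_zero ha (hu _)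
            · rw [Function.update_of_ne hi]; exact hu i
          rwa [h1, map_smul, transv_smul_vec] at h3
        have hκ : -(c' * c0⁻¹) ≠ 0 := neg_ne_zero.2 (mul_ne_zero hc' (inv_ne_zero hc0))
        obtain ⟨a, b, hab⟩ : ∃ a b : F, a ^ 2 + b ^ 2 = c * (-(c' * c0⁻¹))⁻¹ := by
          have hq : Fintype.card F % 2 = 1 := Nat.odd_iff.1 hodd
          obtain ⟨a, b, hab⟩ := FiniteField.exists_root_sum_quadratic (R := F) (f := Polynomial.X ^ 2)
            (g := Polynomial.X ^ 2 - Polynomial.C (c * (-(c' * c0⁻¹))⁻¹))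
            (Polynomial.degree_X_pow 2) (by rw [Polynomial.degree_X_pow_sub_C (by norm_num)]; rfl) hq
          refine ⟨a, b, ?_⟩
          rw [Polynomial.eval_pow, Polynomial.eval_X, Polynomial.eval_sub, Polynomial.eval_pow, Polynomial.eval_X,
            Polynomial.eval_C] at hab
          linear_combination hab
        have h5 := M.mul_mem (hsq a) (hsq b)
        rw [transv_mul, ← add_mul, hab, mul_assoc, inv_mul_cancel₀ hκ, mul_one] at h5
        exact h5
      apply eq_top_of_full
      refine full_of_connected ⟨1, one_ne_zero, fun h => h2 ?_⟩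
        {v | ∃ u : Fin t → (Fin k → F), (∀ i, u i ≠ 0) ∧ v = psi e P (tp u)} ?_ ?_ ?_
      · have h1 : (1 : F) + 1 = 0 := by
          nth_rewrite 1 [h]
          rw [neg_add_cancel]
        rw [← one_add_one_eq_two, h1]
      · rintro _ ⟨u, hu, rfl⟩
        exact hfull u hu
      · intro v hv
        obtain ⟨x, rfl⟩ := psi_surj e P v
        by_contra hcon
        push Not at hcon
        apply hv
        rw [hpure x fun u hu => hcon _ ⟨u, hu, rfl⟩, map_zero]
      · intro W hW1 hW2
        by_contra hcon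
        push Not at hcon
        have hmem : ∀ u : Fin t → (Fin k → F), (∀ i, u i ≠ 0) → psi e P (tp u) ∉ W →
            ∀ w ∈ W, sympForm m F w (psi e P (tp u)) = 0 := fun u hu h => hcon _ ⟨u, hu, rfl⟩ h
        -- if one pure vector is in `W` then all are
        have hone : ∀ u : Fin t → (Fin k → F), (∀ i, u i ≠ 0) → psi e P (tp u) ∈ W →
            ∀ u' : Fin t → (Fin k → F), (∀ i, u' i ≠ 0) → psi e P (tp u') ∈ W := by
          intro u hu huW u' hu'
          have hx : ∀ i, ∃ x, ω (u i) x ≠ 0 ∧ ω (u' i) x ≠ 0 := fun i => hcom _ _ (hu i) (hu' i)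
          choose x hx1 hx2 using hx
          have hx0 : ∀ i, x i ≠ 0 := by
            intro i h0
            apply hx1 i
            rw [h0, map_zero]
          have hxW : psi e P (tp x) ∈ W := by
            by_contra h
            have h1 := hmem x hx0 h _ huW
            have h3 : β (tp u) (tp x) = 0 := h1
            rw [hβ] at h3
            exact mul_ne_zero hc0 (Finset.prod_ne_zero_iff.2 fun i _ => hx1 i) h3
          by_contra h
          have h1 := hmem u' hu' h _ hxW
          have h3 : β (tp x) (tp u') = 0 := h1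
          rw [hβ] at h3
          refine mul_ne_zero hc0 (Finset.prod_ne_zero_iff.2 fun i _ => ?_) h3
          rw [skew]
          exact neg_ne_zero.2 (hx2 i)
        by_cases hsome : ∃ u : Fin t → (Fin k → F), (∀ i, u i ≠ 0) ∧ psi e P (tp u) ∈ W
        · obtain ⟨u, hu, huW⟩ := hsome
          apply hW2
          rw [eq_top_iff]
          intro v _
          obtain ⟨x, rfl⟩ := psi_surj e P v
          rw [pi_eq_sum_univ' x, map_sum]
          refine Submodule.sum_mem _ fun b _ => ?_
          rw [map_smul, single_eq_tp]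
          refine Submodule.smul_mem _ _ (hone u hu huW _ fun i => ?_)
          intro h
          have := congrFun h (b i)
          rw [Pi.single_eq_same] at this
          exact one_ne_zero this
        · push Not at hsome
          apply hW1
          rw [Submodule.eq_bot_iff]
          intro v hv
          obtain ⟨x, rfl⟩ := psi_surj e P v
          rw [hpure x fun u hu => hmem u hu (hsome u hu) _ hv, map_zero]

end Cfsg.Agent.H874
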