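import Cfsg.Agent.H520.CcpCfg
import Cfsg.Agent.SignalizersComponents.ComponentExists

/-!
# Quasisimple subgroups in minimal configurations (helper874, for S4114)

`aq_fix` : `π : L → G` with central kernel, `αt` a lift of `α`, `π(L) ≠ G`, `θ : L → R`, `j : Q → L` with `Q` quasisimple and `θ j`
injective with normal image and abelian centralizer: then `θ(αt(j e)) = θ(j e)`.
-/

set_option autoImplicit false

namespace Cfsg.Agent.H874.Stein

open Subgroup Cfsg Cfsg.Agent.H520
open scoped commutatorElement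

/-- proper normal subgroups of quasisimple groups which are solvable are central -/
theorem le_center_of_solvable {Q : Type*} [Group Q] (hQ : IsQuasisimple Q) {N : Subgroup Q} (hN : N.Normal)
    (hs : Group.IsSolvable N) : N ≤ center Q := by
  have := hQ.2
  have hNm : (N.map (QuotientGroup.mk' (center Q))).Normal := hN.map _ (QuotientGroup.mk'_surjective _)
  rcases hNm.eq_bot_or_eq_top with h | h
  · intro x hx
    have h1 : QuotientGroup.mk' (center Q) x ∈ N.map (QuotientGroup.mk' (center Q)) := mem_map_of_mem _ hx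
    rw [h, mem_bot] at h1
    exact (QuotientGroup.eq_one_iff _).1 h1
  · exfalso
    apply SignalizersComponents.ComponentExists.not_isSolvable_of_isQuasisimple hQ
    have h1 : Group.IsSolvable (N.map (QuotientGroup.mk' (center Q))) :=
      Group.isSolvable_of_surjective (f := (QuotientGroup.mk' (center Q)).subgroupMap N)
        ((QuotientGroup.mk' (center Q)).subgroupMap_surjective N)
    rw [h] at h1
    have h2 : Group.IsSolvable (Q ⧸ center Q) :=
      Group.isSolvable_of_surjective (f := (⊤ : Subgroup (Q ⧸ center Q)).subtype) (fun x => ⟨⟨x, trivial⟩, rfl⟩)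
    have h3 : Group.IsSolvable (center Q) := Group.isSolvable_of_comm (fun a b => Subtype.ext ((mem_center_iff.1 b.2 a.1)))
    rw [Group.isSolvable_iff_subgroup_quotient (center Q)]
    exact ⟨h3, h2⟩

theorem cM_conj {G : Type*} [Group G] [Finite G] {α : MulAut G} {M : Subgroup G} (hM : ∀ m ∈ M, α m ∈ M) {x n : G}
    (hx : x ∈ M) (hn : n ∈ cM α M) : x * n * x⁻¹ ∈ cM α M := by
  rw [← map_cG_resA α M hM] at hn ⊢
  obtain ⟨y, hy, rfl⟩ := hn
  exact ⟨⟨x, hx⟩ * y * ⟨x, hx⟩⁻¹, (cG_normal (resA α M hM)).conj_mem y hy ⟨x, hx⟩, rfl⟩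

theorem aq {G : Type*} [Group G] [Finite G] {α : MulAut G} (h : Cfg α) {L R Q : Type*} [Group L] [Group R] [Group Q]
    (π : L →* G) (hπ : ∀ x ∈ π.ker, ∀ y : L, x * y = y * x) (αt : L →* L) (hαt : ∀ l, π (αt l) = α (π l))
    (hne : π.range ≠ ⊤) (θ : L →* R) (j : Q →* L) (hQ : IsQuasisimple Q)
    (hinj : Function.Injective (θ.comp j)) (hnor : ∀ (x : R) (e : Q), ∃ e' : Q, x * θ (j e) * x⁻¹ = θ (j e')) (e e' : Q) :
    Commute ((θ (j e))⁻¹ * θ (αt (j e))) (θ (j e')) := by
  have hM : ∀ m ∈ π.range, α m ∈ π.range := by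
    rintro _ ⟨l, rfl⟩
    exact ⟨αt l, hαt l⟩
  set N := cM α π.range with hN
  have hNs : Group.IsSolvable N := h.min _ hne hM
  set Nt : Subgroup L := N.comap π with hNt
  have hNtn : ∀ (l x : L), x ∈ Nt → l * x * l⁻¹ ∈ Nt := by
    intro l x hx
    rw [hNt, mem_comap, map_mul, map_mul, map_inv]
    exact cM_conj hM ⟨l, rfl⟩ hx
  have hNts : Group.IsSolvable Nt := by
    let f : Nt →* N := (π.comp Nt.subtype).codRestrict N fun x => x.2
    have h1 : Group.IsSolvable f.ker := by
      apply Group.isSolvable_of_comm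
      intro a b
      apply Subtype.ext
      apply Subtype.ext
      apply hπ
      exact congrArg Subtype.val (MonoidHom.mem_ker.1 a.2)
    exact Group.isSolvable_of_ker_le_range f.ker.subtype f (by rw [range_subtype])
  set NR : Subgroup R := Nt.map θ with hNR
  have hNRs : Group.IsSolvable NR :=
    Group.isSolvable_of_surjective (f := θ.subgroupMap Nt) (θ.subgroupMap_surjective Nt)
  have hNRn : ∀ (l : L) (x : R), x ∈ NR → θ l * x * (θ l)⁻¹ ∈ NR := by
    rintro l _ ⟨x, hx, rfl⟩
    exact ⟨l * x * l⁻¹, hNtn l x hx, by rw [map_mul, map_mul, map_inv]⟩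
  have hNQ : (NR.comap (θ.comp j)) ≤ center Q := by
    apply le_center_of_solvable hQ
    · constructor
      intro x hx g
      rw [mem_comap, map_mul, map_mul, map_inv]
      exact hNRn (j g) _ hx
    · let f : (NR.comap (θ.comp j)) →* NR := ((θ.comp j).comp (NR.comap (θ.comp j)).subtype).codRestrict NR fun x => x.2
      exact Group.isSolvable_of_isSolvable_injective (f := f) (fun a b hab => by
        apply Subtype.ext
        exact hinj (congrArg Subtype.val hab))
  -- elements of `NR` commute with the image of `Q`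
  have key : ∀ x ∈ NR, ∀ e : Q, Commute x (θ (j e)) := by
    intro x hx
    have h1 : ∀ e : Q, ∃ c ∈ center Q, x * θ (j e) * x⁻¹ = θ (j (c * e)) := by
      intro e
      obtain ⟨e', he'⟩ := hnor x e
      refine ⟨e' * e⁻¹, ?_, by rw [inv_mul_cancel_right]; exact he'⟩
      apply hNQ
      rw [mem_comap]
      show θ (j (e' * e⁻¹)) ∈ NR
      rw [map_mul, map_mul, ← he', map_inv, map_inv]
      have h2 : x * θ (j e) * x⁻¹ * (θ (j e))⁻¹ = x * (θ (j e) * x⁻¹ * (θ (j e))⁻¹) := by group
      rw [h2]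
      exact mul_mem hx (hNRn _ _ (inv_mem hx))
    let S : Subgroup Q := (centralizer ({x} : Set R)).comap (θ.comp j)
    have hS : S = ⊤ := by
      rw [eq_top_iff, ← hQ.1.commutator_eq_top, commutator_def, commutator_le]
      intro a _ b _
      rw [mem_comap, mem_centralizer_singleton_iff]
      obtain ⟨ca, hca, ea⟩ := h1 a
      obtain ⟨cb, hcb, eb⟩ := h1 b
      have h2 : ⁅ca * a, cb * b⁆ = ⁅a, b⁆ := by
        have h3 : ∀ y, ca * y = y * ca := fun y => (mem_center_iff.1 hca y).symm
        have h4 : ∀ y, cb * y = y * cb := fun y => (mem_center_iff.1 hcb y).symm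
        rw [commutatorElement_def, commutatorElement_def, mul_inv_rev, mul_inv_rev]
        calc ca * a * (cb * b) * (a⁻¹ * ca⁻¹) * (b⁻¹ * cb⁻¹)
            = ca * (a * (cb * b) * a⁻¹) * ca⁻¹ * (b⁻¹ * cb⁻¹) := by group
          _ = a * (cb * (b * a⁻¹ * b⁻¹)) * cb⁻¹ := by rw [h3]; group
          _ = a * b * a⁻¹ * b⁻¹ := by rw [h4]; group
      have h3 : x * θ (j ⁅a, b⁆) * x⁻¹ = θ (j ⁅a, b⁆) := by
        rw [← h2]
        nth_rw 1 [h2]
        rw [map_commutatorElement, map_commutatorElement, map_commutatorElement, map_commutatorElement, ← ea, ← eb,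
          commutatorElement_def, commutatorElement_def]
        group
      show θ (j ⁅a, b⁆) * x = x * θ (j ⁅a, b⁆)
      rw [mul_inv_eq_iff_eq_mul] at h3
      exact h3.symm
    intro e
    have h2 : e ∈ S := by rw [hS]; trivial
    rw [mem_comap, mem_centralizer_singleton_iff] at h2
    exact h2.symm
  apply key
  refine ⟨(j e)⁻¹ * αt (j e), ?_, by rw [map_mul, map_inv]⟩
  show π ((j e)⁻¹ * αt (j e)) ∈ N
  rw [map_mul, map_inv, hαt]
  exact mem_cM α ⟨j e, rfl⟩

theorem aq_fix {G : Type*} [Group G] [Finite G] {α : MulAut G} (h : Cfg α) {L R Q : Type*} [Group L] [Group R] [Group Q]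
    (π : L →* G) (hπ : ∀ x ∈ π.ker, ∀ y : L, x * y = y * x) (αt : L →* L) (hαt : ∀ l, π (αt l) = α (π l))
    (hne : π.range ≠ ⊤) (θ : L →* R) (j : Q →* L) (hQ : IsQuasisimple Q)
    (hinj : Function.Injective (θ.comp j)) (hnor : ∀ (x : R) (e : Q), ∃ e' : Q, x * θ (j e) * x⁻¹ = θ (j e'))
    (hcen : ∀ x y : R, (∀ e : Q, Commute x (θ (j e))) → (∀ e : Q, Commute y (θ (j e))) → Commute x y) (e : Q) :
    θ (αt (j e)) = θ (j e) := by
  have h1 := aq h π hπ αt hαt hne θ j hQ hinj hnor
  let z : Q → R := fun e => (θ (j e))⁻¹ * θ (αt (j e))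
  have hz : ∀ a b : Q, z (a * b) = z a * z b := by
    intro a b
    have h2 := h1 a b⁻¹
    show (θ (j (a * b)))⁻¹ * θ (αt (j (a * b))) = _
    have h3 : (θ (j b))⁻¹ * ((θ (j a))⁻¹ * θ (αt (j a))) = ((θ (j a))⁻¹ * θ (αt (j a))) * (θ (j b))⁻¹ := by
      have h4 := h2.eq
      rw [map_inv, map_inv] at h4
      exact h4.symm
    calc (θ (j (a * b)))⁻¹ * θ (αt (j (a * b)))
        = (θ (j b))⁻¹ * ((θ (j a))⁻¹ * θ (αt (j a))) * θ (αt (j b)) := by
          simp only [map_mul]
          group
      _ = _ := by rw [h3]; simp only [z]; group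
  let zh : Q →* R := { toFun := z, map_one' := by
                        show (θ (j 1))⁻¹ * θ (αt (j 1)) = 1
                        simp, map_mul' := hz }
  have hk : zh.ker = ⊤ := by
    rw [eq_top_iff, ← hQ.1.commutator_eq_top, commutator_def, commutator_le]
    intro a _ b _
    rw [MonoidHom.mem_ker, map_commutatorElement, commutatorElement_eq_one_iff_commute]
    exact hcen _ _ (h1 a) (h1 b)
  have h2 : e ∈ zh.ker := by rw [hk]; trivial
  have h3 : (θ (j e))⁻¹ * θ (αt (j e)) = 1 := h2
  exact (inv_mul_eq_one.1 h3).symm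

end Cfsg.Agent.H874.Stein
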