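import Cfsg.Agent.H874.Recog
import Cfsg.Agent.H874.SlotY
import Cfsg.Agent.H874.SlotKM

/-!
# Good slots: the root elements are permuted
-/

set_option autoImplicit false
set_option linter.unusedSimpArgs false
set_option linter.unusedVariables false
set_option linter.unusedSectionVars false

namespace Cfsg.Agent.H874

open Matrix Cfsg.Agent.H889

variable {F : Type*} [Field F] {k t : ℕ}

section Slots

variable {ω : (Fin k → F) →ₗ[F] (Fin k → F) →ₗ[F] F} {M : Subgroup (Module.End F ((Fin t → Fin k) → F))ˣ}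

/-- Commuting with the root elements of a slot implies commuting with the slot. -/
theorem comm_slot (hω : ∀ w, ω w w = 0) (hn : ∀ w, (∀ x, ω w x = 0) → w = 0)
    (hex : ∀ u v : Fin k → F, u ≠ 0 → v ≠ 0 → ∃ x, ω u x ≠ 0 ∧ ω v x ≠ 0) {j : Fin t}
    {X : Module.End F ((Fin t → Fin k) → F)} (h : ∀ w, w ≠ 0 → X * sl j (eM ω w w) = sl j (eM ω w w) * X)
    (B : Matrix (Fin k) (Fin k) F) : X * sl j B = sl j B * X := by
  refine gen_eM hn hex hω (fun B => X * sl j B = sl j B * X) h ?_ ?_ ?_ ?_ B
  · show X * sl j 0 = sl j 0 * X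
    rw [sl_zero, mul_zero, zero_mul]
  · intro A B hA hB
    show X * sl j (A + B) = sl j (A + B) * X
    rw [sl_add, mul_add, add_mul, hA, hB]
  · intro c A hA
    show X * sl j (c • A) = sl j (c • A) * X
    rw [sl_smul, mul_smul_comm, smul_mul_assoc, hA]
  · intro A B hA hB
    show X * sl j (A * B) = sl j (A * B) * X
    rw [← sl_mul, ← mul_assoc, hA, mul_assoc, hB, mul_assoc]

/-- The commutant of all slots but one. -/
theorem isOp_of_comm [NeZero k] (hω : ∀ w, ω w w = 0) (hn : ∀ w, (∀ x, ω w x = 0) → w = 0) {j : Fin t}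
    {X : Module.End F ((Fin t → Fin k) → F)} (h : ∀ i, i ≠ j → ∀ B, X * sl i B = sl i B * X) :
    (tslot ω hω hn j).IsOp X := by
  let S := tslot ω hω hn j
  have hZ : ∀ v w : Fin k → F, ∃ c : F, ∀ y, S.c v (X (S.i w y)) = c • y := by
    intro v w
    have h1 : ∀ i B, coj j (S.c v ∘ₗ X ∘ₗ S.i w) * sl i B = sl i B * coj j (S.c v ∘ₗ X ∘ₗ S.i w) := by
      intro i B
      by_cases hi : i = j
      · subst hi; exact coj_comm_self ω hω hn i B _
      · exact coj_comm_of ω hω hn hi B (h i hi B) v w
    obtain ⟨c, hc⟩ := scalar_of_comm h1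
    have h3 : coj j (S.c v ∘ₗ X ∘ₗ S.i w) = c • 1 := LinearMap.ext fun x => by rw [hc]; rfl
    have h4 := coj_eq_smul hω hn h3
    exact ⟨c, fun y => LinearMap.congr_fun h4 y⟩
  choose τ hτ using hZ
  have hsurj : Function.Surjective (ω : (Fin k → F) →ₗ[F] Module.Dual F (Fin k → F)) := by
    refine (LinearMap.injective_iff_surjective_of_finrank_eq_finrank
      (Subspace.dual_finrank_eq (K := F) (V := Fin k → F)).symm).1 ?_
    rw [injective_iff_map_eq_zero]
    intro w hw
    exact hn w fun x => by rw [hw, LinearMap.zero_apply]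
  choose b hb using fun q : Fin k => hsurj (LinearMap.proj q)
  let y0 : ({i : Fin t // i ≠ j} → Fin k) → F := Pi.single (fun _ => 0) 1
  have hy0 : ∀ v w, τ v w = S.c v (X (S.i w y0)) (fun _ => 0) := by
    intro v w
    rw [hτ, Pi.smul_apply]
    show τ v w = τ v w * (Pi.single (fun _ => 0) (1 : F) : ({i : Fin t // i ≠ j} → Fin k) → F) (fun _ => 0)
    rw [Pi.single_eq_same, mul_one]
  let T : Module.End F (Fin k → F) :=
    { toFun := fun w p => τ (b p) w
      map_add' := fun w w' => by
        funext p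
        rw [Pi.add_apply, hy0, hy0, hy0, map_add, LinearMap.add_apply, map_add, map_add, Pi.add_apply]
      map_smul' := fun c w => by
        funext p
        rw [RingHom.id_apply, Pi.smul_apply, hy0, hy0, map_smul, LinearMap.smul_apply, map_smul, map_smul,
          Pi.smul_apply] }
  have hdec : ∀ v : Fin k → F, v = ∑ p, ω v (Pi.single p 1) • b p := by
    intro v
    rw [← sub_eq_zero]
    refine hn _ fun x => ?_
    rw [map_sub, map_sum, LinearMap.sub_apply, LinearMap.sum_apply, omega_eq_sum ω v x, sub_eq_zero]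
    refine Finset.sum_congr rfl fun p _ => ?_
    rw [map_smul, LinearMap.smul_apply, hb, LinearMap.proj_apply, smul_eq_mul]
  refine ⟨T, fun w y => S.ext_c fun v => ?_⟩
  rw [hτ, Slot.ci]
  congr 1
  show τ v w = ω v (T w)
  rw [omega_eq_sum ω v (T w)]
  have h5 : τ v w = ∑ p, ω v (Pi.single p 1) * τ (b p) w := by
    rw [hy0]
    conv_lhs => rw [hdec v]
    rw [map_sum, LinearMap.sum_apply, Finset.sum_apply]
    refine Finset.sum_congr rfl fun p _ => ?_
    rw [map_smul, LinearMap.smul_apply, Pi.smul_apply, smul_eq_mul, hy0]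
  exact h5

/-- Vectors orthogonal to `w` outside `⟨w⟩`. -/
theorem exists_perp (hω : ∀ w, ω w w = 0) (hk : 3 ≤ k) {w : Fin k → F} (hw : w ≠ 0) :
    ∃ v, ω w v = 0 ∧ ∀ a : F, v ≠ a • w := by
  by_contra hcon
  push Not at hcon
  have h1 : LinearMap.ker (ω w) ≤ Submodule.span F {w} := by
    intro v hv
    obtain ⟨a, ha⟩ := hcon v hv
    exact Submodule.mem_span_singleton.2 ⟨a, ha.symm⟩
  have h2 := Submodule.finrank_mono h1
  have h3 : Module.finrank F (Submodule.span F {w}) ≤ 1 := finrank_span_le_card ({w} : Set (Fin k → F)) |>.trans (by simp)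
  have h4 := LinearMap.finrank_range_add_finrank_ker (ω w)
  have h5 : Module.finrank F (LinearMap.range (ω w)) ≤ 1 := by
    have := Submodule.finrank_le (LinearMap.range (ω w))
    rwa [Module.finrank_self] at this
  rw [Module.finrank_fin_fun] at h4
  omega

theorem dim_two (hω : ∀ w, ω w w = 0) (hk : k = 2) {w u : Fin k → F} (hwu : ω w u = 1) (x : Fin k → F) :
    x = ω w x • u - ω u x • w := by
  subst hk
  have skew := skew_of_alt hω
  have huw : ω u w = -1 := by rw [skew, hwu]
  have hli : LinearIndependent F ![w, u] := by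
    rw [LinearIndependent.pair_iff]
    intro a b hab
    have h1 := congrArg (ω w) hab
    have h2 := congrArg (ω u) hab
    rw [map_add, map_smul, map_smul, hω, hwu, map_zero, smul_zero, zero_add, smul_eq_mul, mul_one] at h1
    rw [map_add, map_smul, map_smul, hω, huw, map_zero, smul_zero, add_zero, smul_eq_mul, mul_neg, mul_one,
      neg_eq_zero] at h2
    exact ⟨h2, h1⟩
  have hspan : Submodule.span F (Set.range ![w, u]) = ⊤ := by
    refine hli.span_eq_top_of_card_eq_finrank' ?_
    rw [Module.finrank_fin_fun, Fintype.card_fin]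
  have hx : x ∈ Submodule.span F (Set.range ![w, u]) := by rw [hspan]; exact Submodule.mem_top
  rw [Matrix.range_cons, Matrix.range_cons, Matrix.range_empty, Set.union_empty] at hx
  obtain ⟨a, b, hab⟩ := Submodule.mem_span_pair.1 hx
  rw [← hab, map_add, map_add, map_smul, map_smul, map_smul, map_smul, hω, hω, hwu, huw, smul_zero, smul_zero, zero_add,
    add_zero, smul_eq_mul, smul_eq_mul, mul_one, mul_neg, mul_one, neg_smul, sub_neg_eq_add, add_comm]

/-- Good slots: the root elements are permuted up to scalars. -/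
theorem roots_of_good [Fintype F] [NeZero k] {p : ℕ} [Fact p.Prime] [CharP F p] (hp : Odd p) [Finite M]
    (hM : LevelHyp ω M) (hω : ∀ w, ω w w = 0) (hn : ∀ w, (∀ x, ω w x = 0) → w = 0)
    (hex : ∀ u v : Fin k → F, u ≠ 0 → v ≠ 0 → ∃ x, ω u x ≠ 0 ∧ ω v x ≠ 0)
    (hroot : ∀ j v (l : F), In M (l • sl j (eM ω v v)))
    (hk : k = 2 ∧ 3 < Fintype.card F ∨ 3 ≤ k)
    (hgood : ∀ j, (tslot ω hω hn j).Good M)
    {g : (Module.End F ((Fin t → Fin k) → F))ˣ} (hg : g ∈ M) (i : Fin t) {w : Fin k → F} (hw : w ≠ 0) :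
    ∃ (j : Fin t) (u : Fin k → F) (l : F), (g : Module.End F ((Fin t → Fin k) → F)) * sl i (eM ω w w) *
      ((g⁻¹ : (Module.End F ((Fin t → Fin k) → F))ˣ) : Module.End F ((Fin t → Fin k) → F)) = l • sl j (eM ω u u) := by
  classical
  have h2 : (2 : F) ≠ 0 := by
    intro h
    have h3 : ((2 : ℕ) : F) = 0 := by exact_mod_cast h
    rw [CharP.cast_eq_zero_iff F p] at h3
    obtain ⟨m, hm⟩ := hp
    have h4 := Nat.le_of_dvd (by norm_num) h3
    have h5 : p ≠ 1 := CharP.char_ne_one F p
    omega
  -- permutations relate the slots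
  have hperm : ∀ (σ : Equiv.Perm (Fin t)), ∃ u ∈ M, ∀ j B, (u : Module.End F ((Fin t → Fin k) → F)) * sl (σ j) B *
      ((u⁻¹ : (Module.End F ((Fin t → Fin k) → F))ˣ) : Module.End F ((Fin t → Fin k) → F)) = sl j B := by
    intro σ
    obtain ⟨u, hu, hu1⟩ := hM.perm_mem σ
    refine ⟨u, hu, fun j B => ?_⟩
    have h3 := hu1 (Function.update (fun _ => 1) (σ j) B)
    have h4 : (fun i => Function.update (fun _ : Fin t => (1 : Matrix (Fin k) (Fin k) F)) (σ j) B (σ i))
        = Function.update (fun _ => 1) j B := by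
      funext l
      by_cases hl : l = j
      · subst hl; rw [Function.update_self, Function.update_self]
      · rw [Function.update_of_ne hl, Function.update_of_ne fun h => hl (σ.injective h)]
    rw [h4] at h3
    rw [sl, h3, mul_assoc, Units.mul_inv, mul_one]
    rfl
  -- all root elements are in `DM` for each slot
  have hDM : ∀ (i j : Fin t) (w : Fin k → F), w ≠ 0 → ∀ g ∈ M,
      g * (tslot ω hω hn i).tv w 1 * g⁻¹ ∈ (tslot ω hω hn j).DM M := by
    intro i j w hw g hg
    obtain ⟨u, hu, hu1⟩ := hperm (Equiv.swap i j)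
    refine ⟨g * u, M.mul_mem hg hu, w, hw, 1, one_ne_zero, ?_⟩
    have h3 : (tslot ω hω hn i).tv w 1 = u * (tslot ω hω hn j).tv w 1 * u⁻¹ := by
      apply Units.ext
      have h4 := hu1 i (eM ω w w)
      rw [Equiv.swap_apply_left] at h4
      rw [Units.val_mul, Units.val_mul, Slot.coe_tv, Slot.coe_tv, one_smul, one_smul, Δ_eq_sl, Δ_eq_sl, mul_add,
        add_mul, mul_one, Units.mul_inv, h4]
    rw [h3]
    group
  -- the slot lemma
  have hslot : ∀ (j : Fin t) (e : (Module.End F ((Fin t → Fin k) → F))ˣ), e ∈ (tslot ω hω hn j).DM M →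
      (∀ w l, (tslot ω hω hn j).tv w l * e = e * (tslot ω hω hn j).tv w l) ∨
        ∃ b l, b ≠ 0 ∧ e = (tslot ω hω hn j).tv b l := by
    intro j e he
    have hne : Nontrivial (({i : Fin t // i ≠ j} → Fin k) → F) := Pi.nontrivial_at (fun _ => (0 : Fin k))
    rcases hk with ⟨hk2, hq⟩ | hk3
    · obtain ⟨w0, hw0⟩ : ∃ w0 : Fin k → F, w0 ≠ 0 := ⟨w, hw⟩
      obtain ⟨u0, hu0⟩ := exists_one hn hw0
      refine Slot.Good.slot_lemma_two (hgood j) h2 hq ?_ (w := w0) (u := u0) hu0
        (fun w u hwu x => dim_two hω hk2 hwu x) ?_ he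
      · rw [Module.finrank_pi, Fintype.card_fun, Fintype.card_fin, hk2]
        push_cast
        exact pow_ne_zero _ h2
      · intro X hX
        refine isOp_of_comm hω hn fun i hij B => comm_slot hω hn hex (fun w hw => ?_) B
        have h3 : (tslot ω hω hn i).tv w 1 ∈ (tslot ω hω hn j).DM M := by
          have := hDM i j w hw 1 M.one_mem
          rwa [one_mul, inv_one, mul_one] at this
        have h4 := hX _ h3 (by
          rw [Slot.coe_tv, one_smul, Δ_eq_sl]
          exact Slot.IsCo.add Slot.IsCo.one (isCo_sl ω hω hn hij _))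
        rw [Slot.coe_tv, one_smul, Δ_eq_sl, mul_add, add_mul, mul_one, one_mul] at h4
        exact add_left_cancel h4
    · exact Slot.Good.slot_lemma (p := p) (hgood j) h2 (fun w hw => exists_perp hω hk3 hw) he
  obtain ⟨e, he⟩ : ∃ e, e = g * (tslot ω hω hn i).tv w 1 * g⁻¹ := ⟨_, rfl⟩
  have hev : (e : Module.End F ((Fin t → Fin k) → F)) = 1 + (g : Module.End F ((Fin t → Fin k) → F)) *
      sl i (eM ω w w) *
      ((g⁻¹ : (Module.End F ((Fin t → Fin k) → F))ˣ) : Module.End F ((Fin t → Fin k) → F)) := by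
    rw [he, Units.val_mul, Units.val_mul, Slot.coe_tv, one_smul, Δ_eq_sl, mul_add, add_mul, mul_one, Units.mul_inv]
  by_cases hall : ∀ j w l, (tslot ω hω hn j).tv w l * e = e * (tslot ω hω hn j).tv w l
  · -- `e` is scalar
    exfalso
    have h3 : ∀ j B, (e : Module.End F ((Fin t → Fin k) → F)) * sl j B
        = sl j B * (e : Module.End F ((Fin t → Fin k) → F)) := by
      intro j B
      refine comm_slot hω hn hex (fun w hw => ?_) B
      have h4 := congrArg Units.val (hall j w 1)
      rw [Units.val_mul, Units.val_mul, Slot.coe_tv, one_smul, Δ_eq_sl, mul_add, add_mul, mul_one, one_mul] at h4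
      exact (add_left_cancel h4).symm
    obtain ⟨c, hc⟩ := scalar_of_comm h3
    have hec : (e : Module.End F ((Fin t → Fin k) → F)) = c • 1 := LinearMap.ext fun x => by rw [hc]; rfl
    obtain ⟨x, hx⟩ : ∃ x, x = (g : Module.End F ((Fin t → Fin k) → F)) * sl i (eM ω w w) *
      ((g⁻¹ : (Module.End F ((Fin t → Fin k) → F))ˣ) : Module.End F ((Fin t → Fin k) → F)) := ⟨_, rfl⟩
    have hxx : x * x = 0 := by
      rw [hx]
      simp only [mul_assoc]
      rw [← mul_assoc _ (g : Module.End F ((Fin t → Fin k) → F)), Units.inv_mul, one_mul,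
        ← mul_assoc (sl i _) (sl i _), sl_mul, eM_sq ω (hω w), sl_zero, zero_mul, mul_zero]
    have hxc : x = (c - 1) • 1 := by
      have h5 : x = (e : Module.End F ((Fin t → Fin k) → F)) - 1 := by rw [hev, add_sub_cancel_left, hx]
      rw [h5, hec]
      refine LinearMap.ext fun y => ?_
      simp only [LinearMap.sub_apply, LinearMap.smul_apply, Module.End.one_apply, sub_smul, one_smul]
    have h0 : (Pi.single (fun _ => 0) 1 : (Fin t → Fin k) → F) ≠ 0 := by
      intro h
      have := congrFun h (fun _ => 0)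
      rw [Pi.single_eq_same] at this
      exact one_ne_zero this
    have hc1 : c - 1 = 0 := by
      rw [hxc, smul_mul_smul_comm, mul_one] at hxx
      have h5 := LinearMap.congr_fun hxx (Pi.single (fun _ => 0) 1)
      rw [LinearMap.smul_apply, Module.End.one_apply, LinearMap.zero_apply] at h5
      exact mul_self_eq_zero.1 ((smul_eq_zero.1 h5).resolve_right h0)
    rw [hc1, zero_smul] at hxc
    have h6 : sl i (eM ω w w) = ((g⁻¹ : (Module.End F ((Fin t → Fin k) → F))ˣ) : Module.End F ((Fin t → Fin k) → F)) * x * g := by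
      rw [hx]
      simp only [mul_assoc]
      rw [Units.inv_mul, mul_one, ← mul_assoc, Units.inv_mul, one_mul]
    rw [hxc, mul_zero, zero_mul] at h6
    have h7 : slot i (eM ω w w) = slot i 0 := by
      rw [slot_zero]
      have h8 : Matrix.toLin' (slot i (eM ω w w)) = Matrix.toLin' 0 := by rw [← sl_eq, h6, map_zero]
      exact Matrix.toLin'.injective h8
    exact eM_ne_zero hn hw (slot_inj h7)
  · push Not at hall
    obtain ⟨j, w', l', hne⟩ := hall
    rcases hslot j e (he ▸ hDM i j w hw g hg) with h | ⟨b, l, hb, h⟩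
    · exact absurd (h w' l') hne
    · refine ⟨j, b, l, ?_⟩
      have h4 := congrArg Units.val h
      rw [hev, Slot.coe_tv, Δ_eq_sl, add_right_inj] at h4
      exact h4

end Slots

end Cfsg.Agent.H874
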